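import Cfsg.Agent.Lib.Geometry.GraphAut.Sim
import Cfsg.Agent.Lib.Geometry.SymmDiscr
import Cfsg.Agent.Lib.Geometry.OrthNegOne
import Cfsg.Agent.Lib.MaxSub.SympSimilarity

/-!
Congruence of symmetric and skew-symmetric matrices over a finite field.
-/

set_option autoImplicit false

namespace Cfsg.Agent.Lib.Geometry.GraphAut

open Matrix

variable {ι κ : Type} [Fintype ι] [DecidableEq ι] [Fintype κ] [DecidableEq κ] {F : Type*} [Field F] [Fintype F]

/-- Congruence. -/
def Cong (M N : Matrix ι ι F) : Prop := ∃ h : GL ι F, (h : Matrix ι ι F)ᵀ * M * (h : Matrix ι ι F) = N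

omit [Fintype F] in
theorem Cong.trans {M N L : Matrix ι ι F} : Cong M N → Cong N L → Cong M L := by
  rintro ⟨a, ha⟩ ⟨b, hb⟩
  refine ⟨a * b, ?_⟩
  rw [← hb, ← ha, Units.val_mul, transpose_mul]
  simp only [mul_assoc]

omit [Fintype F] in
theorem Cong.symm {M N : Matrix ι ι F} : Cong M N → Cong N M := by
  rintro ⟨a, rfl⟩
  refine ⟨a⁻¹, ?_⟩
  rw [show ((a⁻¹ : GL ι F) : Matrix ι ι F)ᵀ * ((a : Matrix ι ι F)ᵀ * M * (a : Matrix ι ι F)) *
      ((a⁻¹ : GL ι F) : Matrix ι ι F) = ((a : Matrix ι ι F) * ((a⁻¹ : GL ι F) : Matrix ι ι F))ᵀ * M *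
        ((a : Matrix ι ι F) * ((a⁻¹ : GL ι F) : Matrix ι ι F)) by simp only [transpose_mul, mul_assoc],
    ← Units.val_mul, mul_inv_cancel, Units.val_one, transpose_one, one_mul, mul_one]

omit [Fintype F] in
theorem Cong.det {M N : Matrix ι ι F} (h : Cong M N) : ∃ d : F, d ≠ 0 ∧ N.det = d * d * M.det := by
  obtain ⟨a, rfl⟩ := h
  exact ⟨(a : Matrix ι ι F).det, (GeneralLinearGroup.det a).ne_zero, by rw [det_mul, det_mul, det_transpose]; ring⟩

omit [Fintype F] in
theorem cong_of_linearEquiv {M N : Matrix ι ι F} (g : (ι → F) ≃ₗ[F] (ι → F))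
    (h : ∀ u v, g u ⬝ᵥ (M *ᵥ g v) = u ⬝ᵥ (N *ᵥ v)) : Cong M N := by
  have hd : IsUnit (LinearMap.toMatrix' (g : (ι → F) →ₗ[F] (ι → F))) := by
    refine IsUnit.of_mul_eq_one (LinearMap.toMatrix' (g.symm : (ι → F) →ₗ[F] (ι → F))) ?_
    rw [← LinearMap.toMatrix'_comp, LinearEquiv.comp_symm, LinearMap.toMatrix'_id]
  refine ⟨hd.unit, ext_form fun u v => ?_⟩
  rw [form_eq, IsUnit.unit_spec, LinearMap.toMatrix'_mulVec, LinearMap.toMatrix'_mulVec]
  exact h u v

/-- Symmetric matrices whose determinants differ by a square are congruent. -/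
theorem cong_of_symm (h2 : (2 : F) ≠ 0) {M N : Matrix ι ι F} (hM : Mᵀ = M) (hN : Nᵀ = N) (hM0 : M.det ≠ 0)
    (hN0 : N.det ≠ 0) (h : IsSquare (M.det * N.det)) : Cong M N := by
  have hs : ∀ {A : Matrix ι ι F}, Aᵀ = A → (Matrix.toBilin' A).IsSymm := fun {A} hA => ⟨fun u v => by
    rw [Matrix.toBilin'_apply', Matrix.toBilin'_apply']
    conv_lhs => rw [dotProduct_mulVec, dotProduct_comm, ← Matrix.mulVec_transpose, hA]⟩
  have ht : ∀ A : Matrix ι ι F, LinearMap.BilinForm.toMatrix (Pi.basisFun F ι) (Matrix.toBilin' A) = A := fun A => by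
    ext i j
    rw [LinearMap.BilinForm.toMatrix_apply, Pi.basisFun_apply, Pi.basisFun_apply, Matrix.toBilin'_single]
  obtain ⟨g, hg⟩ := exists_isometry_of_isSquare_det_mul h2 (Matrix.toBilin' N) (Matrix.toBilin' M) (hs hN) (hs hM)
    (Matrix.nondegenerate_toBilin'_iff.mpr (Matrix.nondegenerate_of_det_ne_zero hN0))
    (Matrix.nondegenerate_toBilin'_iff.mpr (Matrix.nondegenerate_of_det_ne_zero hM0)) (Pi.basisFun F ι)
    (by rw [ht, ht, mul_comm]; exact h)
  exact cong_of_linearEquiv g fun u v => by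
    have := hg u v
    rwa [Matrix.toBilin'_apply', Matrix.toBilin'_apply'] at this

omit [Fintype F] in
/-- Alternating matrices are congruent to the standard one. -/
theorem cong_of_alt {n m : ℕ} {M : Matrix (Fin n) (Fin n) F} (halt : ∀ v, v ⬝ᵥ (M *ᵥ v) = 0) (hM : M.det ≠ 0)
    (hnm : n = 2 * m) (e : Fin m ⊕ Fin m ≃ Fin n) : Cong M (Matrix.reindex e e (Matrix.J (Fin m) F)) := by
  let f : (Fin n → F) → (Fin n → F) → F := fun u v => u ⬝ᵥ (M *ᵥ v)
  have hskew : ∀ v w, f v w = - f w v := fun v w => by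
    have h := halt (v + w)
    rw [add_dotProduct, mulVec_add, dotProduct_add, dotProduct_add, halt, halt, zero_add, add_zero] at h
    exact eq_neg_of_add_eq_zero_left h
  have hr : ∀ v, v ≠ 0 → ∃ u, f u v ≠ 0 := fun v hv => by
    by_contra hh
    push Not at hh
    exact hv (gl_injective hM v (funext fun i => by simpa [f, single_one_dotProduct] using hh (Pi.single i 1)))
  have hf : Cfsg.Geo.IsSymplecticForm f :=
    { bilinear := ⟨fun x y v => add_dotProduct _ _ _, fun c x v => smul_dotProduct _ _ _,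
        fun v x y => by simp only [f]; rw [mulVec_add, dotProduct_add],
        fun c v x => by simp only [f]; rw [mulVec_smul, dotProduct_smul, smul_eq_mul]⟩
      skew := hskew
      alternating := halt
      nondegenerate := fun v hv => by
        obtain ⟨u, hu⟩ := hr v hv
        exact ⟨⟨u, hu⟩, ⟨u, by rw [hskew]; exact neg_ne_zero.mpr hu⟩⟩ }
  obtain ⟨m', T, hn', hT⟩ := Cfsg.Agent.Lib.MaxSub.SympSimilarity.exists_frame hf
  obtain rfl : m' = m := by omega
  refine cong_of_linearEquiv ((LinearEquiv.funCongrLeft F F e).trans T) fun u v => ?_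
  refine (hT _ _).trans ?_
  rw [sympForm_eq, Matrix.reindex_apply, Matrix.submatrix_mulVec_equiv, Equiv.symm_symm]
  show (u ∘ e) ⬝ᵥ _ = _
  conv_rhs => rw [show u = (u ∘ e) ∘ e.symm by ext i; simp]
  rw [comp_equiv_symm_dotProduct, Function.comp_assoc (J (Fin m') F *ᵥ (v ∘ e)), e.symm_comp_self]
  rfl

omit [Fintype F] in
theorem alt_of_skew (h2 : (2 : F) ≠ 0) {M : Matrix ι ι F} (h : Mᵀ = -M) (v : ι → F) : v ⬝ᵥ (M *ᵥ v) = 0 := by
  have e : v ⬝ᵥ (M *ᵥ v) = -(v ⬝ᵥ (M *ᵥ v)) := by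
    conv_lhs => rw [dotProduct_mulVec, dotProduct_comm, ← Matrix.mulVec_transpose, h, neg_mulVec, dotProduct_neg]
  exact (mul_eq_zero.mp (show (2 : F) * (v ⬝ᵥ (M *ᵥ v)) = 0 by linear_combination e)).resolve_left h2

end Cfsg.Agent.Lib.Geometry.GraphAut
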