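import Cfsg.Agent.Lib.Geometry.GraphAut.Auto
import Cfsg.Agent.Lib.Geometry.GraphAut.Forms

/-!
Involutory graph automorphisms of `PSL_n(q)`, `q` odd.
-/

set_option autoImplicit false

namespace Cfsg.Agent.Lib.Geometry.GraphAut

open Matrix
open Cfsg.Agent.Lib.Classical.AutPSL

section General

variable {ι : Type} [Fintype ι] [DecidableEq ι] {F : Type*} [Field F]

theorem matQuad_eq_half (h2 : (2 : F) ≠ 0) (A : Matrix ι ι F) (v : ι → F) :
    matQuad A v = v ⬝ᵥ ((A + Aᵀ) *ᵥ v) / 2 := by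
  rw [matQuad_apply, add_mulVec, dotProduct_add, show v ⬝ᵥ (Aᵀ *ᵥ v) = v ⬝ᵥ (A *ᵥ v) by
    conv_rhs => rw [dotProduct_mulVec, dotProduct_comm, ← Matrix.mulVec_transpose]]
  field_simp
  ring

theorem quadSim_eq (h2 : (2 : F) ≠ 0) (A : Matrix ι ι F) :
    Cfsg.Geo.quadSimilarityGroup (⇑(matQuad A)) = simGroup (A + Aᵀ) := by
  ext g
  show (∃ c : Fˣ, _) ↔ ∃ c : Fˣ, _
  refine exists_congr fun c => ⟨fun h => ext_form fun u v => ?_, fun h v => ?_⟩
  · have hp : ∀ u v, QuadraticMap.polarBilin (matQuad A) u v = u ⬝ᵥ ((A + Aᵀ) *ᵥ v) := fun u v => by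
      rw [polarBilin_matQuad, Matrix.toBilin'_apply']
    rw [form_eq, smul_mulVec, dotProduct_smul, smul_eq_mul, ← hp, ← hp,
      QuadraticMap.polarBilin_apply_apply, QuadraticMap.polarBilin_apply_apply, QuadraticMap.polar,
      QuadraticMap.polar, ← mulVec_add, h, h, h]
    ring
  · rw [matQuad_eq_half h2, matQuad_eq_half h2, ← form_eq, h, smul_mulVec, dotProduct_smul, smul_eq_mul,
      mul_div_assoc]

/-- The gram matrix of the odd dimensional form. -/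
def oddMatrix (m : ℕ) (F : Type*) [Field F] : Matrix (Unit ⊕ (Fin m ⊕ Fin m)) (Unit ⊕ (Fin m ⊕ Fin m)) F :=
  Matrix.fromBlocks 1 0 0 (plusMatrix m F)

theorem quadFormOdd_eq (m : ℕ) : Cfsg.quadFormOdd m F = ⇑(matQuad (oddMatrix m F)) := by
  funext v
  rw [matQuad_apply, oddMatrix, Matrix.fromBlocks_mulVec]
  have h := congrFun (quadFormPlus_eq (F := F) m) (v ∘ Sum.inr)
  rw [matQuad_apply] at h
  simp only [Matrix.one_mulVec, Matrix.zero_mulVec, zero_add, add_zero, dotProduct, Fintype.sum_sum_type,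
    Sum.elim_inl, Sum.elim_inr] at h ⊢
  simp only [Cfsg.quadFormOdd, Cfsg.quadFormPlus, Function.comp_apply] at h ⊢
  rw [h]
  simp [sq]

theorem det_oddGram (m : ℕ) : (oddMatrix m F + (oddMatrix m F)ᵀ).det = 2 * (-1) ^ m := by
  rw [oddMatrix, Matrix.fromBlocks_transpose, Matrix.fromBlocks_add, Matrix.transpose_zero, Matrix.transpose_zero,
    add_zero, add_zero, Matrix.det_fromBlocks_zero₂₁, det_plusGram, Matrix.transpose_one]
  congr 1
  rw [Matrix.det_unique, Matrix.add_apply, Matrix.one_apply_eq, one_add_one_eq_two]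

theorem sym_gram (A : Matrix ι ι F) : (A + Aᵀ)ᵀ = A + Aᵀ := by
  rw [transpose_add, transpose_transpose, add_comm]

end General

section Std

variable {n : ℕ} {F : Type*} [Field F]

/-- A matrix on another index set as an element of `GL_n`. -/
noncomputable def stdGL {ι : Type} [Fintype ι] [DecidableEq ι] (e : ι ≃ Fin n) (A : Matrix ι ι F) (h : A.det ≠ 0) :
    GL (Fin n) F :=
  GeneralLinearGroup.mkOfDetNeZero (Matrix.reindex e e A) (by rw [Matrix.det_reindex_self]; exact h)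

theorem stdGL_coe {ι : Type} [Fintype ι] [DecidableEq ι] (e : ι ≃ Fin n) (A : Matrix ι ι F) (h : A.det ≠ 0) :
    (stdGL e A h : Matrix (Fin n) (Fin n) F) = Matrix.reindex e e A := rfl

theorem centralizer_std [Fintype F] (p : ℕ) [Fact p.Prime] [CharP F p] (hn : 2 ≤ n) {ι : Type} [Fintype ι]
    [DecidableEq ι] (e : ι ≃ Fin n) (A : Matrix ι ι F) (h : A.det ≠ 0) (K : Subgroup (GL ι F)) (hK : K = simGroup A) :
    Nonempty (↥(Cfsg.inndiagPSL n F ⊓ Subgroup.centralizer {gam (stdGL e A h)}) ≃* Cfsg.projQuot K) := by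
  subst hK
  obtain ⟨a⟩ := centralizer_iso p hn (stdGL e A h)
  obtain ⟨b⟩ := projQuot_sim_reindex e A
  exact ⟨a.trans b.symm⟩

theorem centralizer_conj [Fintype F] (p : ℕ) [Fact p.Prime] [CharP F p] (hn : 2 ≤ n) {M N : GL (Fin n) F}
    (c : Fˣ) (h : Cong (M : Matrix (Fin n) (Fin n) F) ((c : F) • (N : Matrix (Fin n) (Fin n) F))) :
    Cfsg.IsConjUnder (Cfsg.inndiagPSL n F) (gam M) (gam N) ∧
    Nonempty (↥(Cfsg.inndiagPSL n F ⊓ Subgroup.centralizer {gam M}) ≃*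
      ↥(Cfsg.inndiagPSL n F ⊓ Subgroup.centralizer {gam N})) := by
  obtain ⟨g, hg⟩ := h
  refine ⟨(conjUnder_iff p hn M N).mpr ⟨g, c⁻¹, ?_⟩, ?_⟩
  · rw [hg, smul_smul, ← Units.val_mul, inv_mul_cancel, Units.val_one, one_smul]
  obtain ⟨a⟩ := centralizer_iso p hn M
  obtain ⟨b⟩ := centralizer_iso p hn N
  obtain ⟨d⟩ := projQuot_sim_cong (M : Matrix (Fin n) (Fin n) F) g
  have e : simGroup ((g : Matrix (Fin n) (Fin n) F)ᵀ * (M : Matrix (Fin n) (Fin n) F) * (g : Matrix (Fin n) (Fin n) F)) =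
      simGroup (N : Matrix (Fin n) (Fin n) F) := by rw [hg, sim_smul _ c.ne_zero]
  obtain ⟨e'⟩ := projQuot_map _ _ (MulEquiv.refl (GL (Fin n) F)) (Subgroup.map_id _) ((Subgroup.map_id _).trans e)
  exact ⟨(a.trans d.symm).trans (e'.trans b.symm)⟩

end Std

section Even

variable {n m : ℕ} {F : Type*} [Field F] [Fintype F]

local notation "Mat" => Matrix (Fin n) (Fin n) F

theorem exists_nonsq (hodd : Odd (Fintype.card F)) :
    ∃ a b : F, (∀ z₁ z₂ : F, z₁ ^ 2 + a * z₁ * z₂ + b * z₂ ^ 2 = 0 → z₁ = 0 ∧ z₂ = 0) := by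
  obtain ⟨α, hα⟩ := FiniteField.exists_nonsquare (F := F) (fun h => by
    have := FiniteField.even_card_of_char_two h
    rw [← Nat.not_even_iff_odd, Nat.even_iff] at hodd
    exact hodd this)
  refine ⟨0, -α, fun x y h => ?_⟩
  by_cases hy : y = 0
  · subst hy
    exact ⟨by simpa using h, rfl⟩
  · exact absurd ⟨x / y, by field_simp; linear_combination -h⟩ hα

theorem isSquare_mul_of_not (hodd : Odd (Fintype.card F)) {x y : F} (hx : ¬ IsSquare x) (hy : ¬ IsSquare y) :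
    IsSquare (x * y) := by
  classical
  have hx0 : x ≠ 0 := fun h => hx ⟨0, by rw [h, mul_zero]⟩
  have hy0 : y ≠ 0 := fun h => hy ⟨0, by rw [h, mul_zero]⟩
  rw [← quadraticChar_one_iff_isSquare (mul_ne_zero hx0 hy0), map_mul,
    quadraticChar_neg_one_iff_not_isSquare.mpr hx, quadraticChar_neg_one_iff_not_isSquare.mpr hy]
  norm_num

/-- The standard data in dimension `2m`. -/
structure StdData (n m : ℕ) (F : Type*) [Field F] where
  eJ : Fin m ⊕ Fin m ≃ Fin n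
  eM : (Fin (m - 1) ⊕ Fin (m - 1)) ⊕ Fin 2 ≃ Fin n
  a : F
  b : F
  hab : ∀ z₁ z₂ : F, z₁ ^ 2 + a * z₁ * z₂ + b * z₂ ^ 2 = 0 → z₁ = 0 ∧ z₂ = 0
  h2 : (2 : F) ≠ 0

theorem exists_stdData (hodd : Odd (Fintype.card F)) (hm : 1 ≤ m) (hnm : n = 2 * m) :
    Nonempty (StdData n m F) := by
  obtain ⟨a, b, hab⟩ := exists_nonsq (F := F) hodd
  exact ⟨⟨Fintype.equivFinOfCardEq (by simp; omega), Fintype.equivFinOfCardEq (by simp; omega), a, b, hab,
    two_ne_zero_of_odd_card hodd⟩⟩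

namespace StdData

variable (D : StdData n m F)

omit [Fintype F] in
theorem detP : (plusMatrix m F + (plusMatrix m F)ᵀ).det ≠ 0 := by rw [det_plusGram]; simp

omit [Fintype F] in
theorem detM : (minusMatrix (m - 1) D.a D.b + (minusMatrix (m - 1) D.a D.b)ᵀ).det ≠ 0 := by
  rw [det_minusGram]
  refine mul_ne_zero (by simp) fun h => discr_not_isSquare D.h2 D.hab ⟨0, by linear_combination -h⟩

/-- Symplectic type. -/
noncomputable def J : GL (Fin n) F := stdGL D.eJ (Matrix.J (Fin m) F) (Matrix.isUnit_det_J (Fin m) F).ne_zero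

/-- Plus type. -/
noncomputable def P : GL (Fin n) F := stdGL D.eJ _ (detP (F := F) (m := m))

/-- Minus type. -/
noncomputable def N : GL (Fin n) F := stdGL D.eM _ D.detM

omit [Fintype F] in
theorem J_skew : (D.J : Mat)ᵀ = -(D.J : Mat) := by
  rw [J, stdGL_coe, Matrix.transpose_reindex, Matrix.J_transpose]
  rfl

omit [Fintype F] in
theorem P_sym : (D.P : Mat)ᵀ = (D.P : Mat) := by rw [P, stdGL_coe, Matrix.transpose_reindex, sym_gram]

omit [Fintype F] in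
theorem N_sym : (D.N : Mat)ᵀ = (D.N : Mat) := by rw [N, stdGL_coe, Matrix.transpose_reindex, sym_gram]

omit [Fintype F] in
theorem det_P : (D.P : Mat).det = (-1) ^ m := by rw [P, stdGL_coe, Matrix.det_reindex_self, det_plusGram]

omit [Fintype F] in
theorem det_N (hm : 1 ≤ m) : (D.N : Mat).det = (-1) ^ m * (D.a ^ 2 - 4 * D.b) := by
  rw [N, stdGL_coe, Matrix.det_reindex_self, det_minusGram]
  obtain ⟨k, rfl⟩ : ∃ k, m = k + 1 := ⟨m - 1, by omega⟩
  rw [Nat.add_sub_cancel, pow_succ]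
  ring

omit [Fintype F] in
theorem not_cong_PN (hm : 1 ≤ m) (hnm : n = 2 * m) (c : Fˣ) (g : GL (Fin n) F) :
    (D.N : Mat) ≠ (c : F) • ((g : Mat)ᵀ * (D.P : Mat) * (g : Mat)) := by
  intro e
  refine discr_not_isSquare D.h2 D.hab ⟨(c : F) ^ m * (g : Mat).det, ?_⟩
  have h := congrArg Matrix.det e
  rw [det_smul, det_mul, det_mul, det_transpose, Fintype.card_fin, D.det_N hm, D.det_P,
    show (c : F) ^ n = (c : F) ^ m * (c : F) ^ m by rw [← pow_add]; congr 1; omega] at h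
  exact mul_left_cancel₀ (pow_ne_zero m (neg_ne_zero.mpr one_ne_zero : (-1 : F) ≠ 0)) (h.trans (by ring))

omit [Fintype F] in
theorem not_cong_sym {S : GL (Fin n) F} (hn : 1 ≤ n) (hS : (S : Mat)ᵀ = (S : Mat)) (c : Fˣ) (g : GL (Fin n) F) :
    (S : Mat) ≠ (c : F) • ((g : Mat)ᵀ * (D.J : Mat) * (g : Mat)) := by
  intro e
  have h := congrArg Matrix.transpose e
  rw [hS, transpose_smul, transpose_mul, transpose_mul, transpose_transpose, D.J_skew, ← mul_assoc, mul_neg,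
    neg_mul, smul_neg, ← e] at h
  haveI : Nonempty (Fin n) := ⟨⟨0, by omega⟩⟩
  have h' : (2 : F) • (S : Mat) = 0 := by rw [two_smul]; nth_rewrite 1 [h]; exact neg_add_cancel _
  exact S.ne_zero ((smul_eq_zero.mp h').resolve_left D.h2)

theorem classify (hodd : Odd (Fintype.card F)) (hm : 1 ≤ m) (hnm : n = 2 * m) {M : GL (Fin n) F}
    (hM : (M : Mat)ᵀ = (M : Mat) ∨ (M : Mat)ᵀ = -(M : Mat)) :
    (Cong (D.J : Mat) (M : Mat) ∧ (M : Mat)ᵀ = -(M : Mat)) ∨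
    ((Cong (D.P : Mat) (M : Mat) ∨ Cong (D.N : Mat) (M : Mat)) ∧ (M : Mat)ᵀ = (M : Mat)) := by
  have h0 : ∀ g : GL (Fin n) F, (g : Mat).det ≠ 0 := fun g => (GeneralLinearGroup.det g).ne_zero
  rcases hM with h | h
  · refine Or.inr ⟨?_, h⟩
    by_cases hs : IsSquare ((D.P : Mat).det * (M : Mat).det)
    · exact Or.inl (cong_of_symm D.h2 D.P_sym h (h0 _) (h0 _) hs)
    · refine Or.inr (cong_of_symm D.h2 D.N_sym h (h0 _) (h0 _) ?_)
      rw [D.det_N hm, mul_comm ((-1 : F) ^ m), mul_assoc, ← D.det_P]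
      exact isSquare_mul_of_not hodd (discr_not_isSquare D.h2 D.hab) hs
  · exact Or.inl ⟨(cong_of_alt (alt_of_skew D.h2 h) (h0 M) hnm D.eJ).symm, h⟩

theorem centralizer_J (p : ℕ) [Fact p.Prime] [CharP F p] (hn : 2 ≤ n) :
    Nonempty (↥(Cfsg.inndiagPSL n F ⊓ Subgroup.centralizer {gam D.J}) ≃* Cfsg.PGSp m F) :=
  centralizer_std p hn _ _ _ _ (GSp_eq m)

theorem centralizer_P (p : ℕ) [Fact p.Prime] [CharP F p] (hn : 2 ≤ n) :
    Nonempty (↥(Cfsg.inndiagPSL n F ⊓ Subgroup.centralizer {gam D.P}) ≃* Cfsg.PGO F (Cfsg.quadFormPlus m F)) :=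
  centralizer_std p hn _ _ _ _ (by rw [quadFormPlus_eq, quadSim_eq D.h2])

theorem centralizer_N (p : ℕ) [Fact p.Prime] [CharP F p] (hn : 2 ≤ n) :
    Nonempty (↥(Cfsg.inndiagPSL n F ⊓ Subgroup.centralizer {gam D.N}) ≃*
      Cfsg.PGO F (Cfsg.quadFormMinus (m - 1) F D.a D.b)) :=
  centralizer_std p hn _ _ _ _ (by rw [quadFormMinus_eq, quadSim_eq D.h2])

end StdData

theorem s2700 (p : ℕ) [Fact p.Prime] [CharP F p] (hodd : Odd (Fintype.card F)) (hm : 2 ≤ m) (hnm : n = 2 * m) :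
    ∃ (γ₁ γ₂ γ₃ : MulAut (Matrix.ProjectiveSpecialLinearGroup (Fin n) F)) (a b : F),
      (∀ z₁ z₂ : F, z₁ ^ 2 + a * z₁ * z₂ + b * z₂ ^ 2 = 0 → z₁ = 0 ∧ z₂ = 0) ∧
      Cfsg.IsGraphAutClassPSL γ₁ ∧ orderOf γ₁ = 2 ∧ Cfsg.IsGraphAutClassPSL γ₂ ∧ orderOf γ₂ = 2 ∧
      Cfsg.IsGraphAutClassPSL γ₃ ∧ orderOf γ₃ = 2 ∧ ¬ Cfsg.IsConjUnder (Cfsg.inndiagPSL n F) γ₁ γ₂ ∧
      ¬ Cfsg.IsConjUnder (Cfsg.inndiagPSL n F) γ₁ γ₃ ∧ ¬ Cfsg.IsConjUnder (Cfsg.inndiagPSL n F) γ₂ γ₃ ∧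
      (∀ γ : MulAut (Matrix.ProjectiveSpecialLinearGroup (Fin n) F), Cfsg.IsGraphAutClassPSL γ → orderOf γ = 2 →
        Cfsg.IsConjUnder (Cfsg.inndiagPSL n F) γ₁ γ ∨ Cfsg.IsConjUnder (Cfsg.inndiagPSL n F) γ₂ γ ∨
          Cfsg.IsConjUnder (Cfsg.inndiagPSL n F) γ₃ γ) ∧
      Nonempty (↥(Cfsg.inndiagPSL n F ⊓ Subgroup.centralizer {γ₁}) ≃* Cfsg.PGSp m F) ∧
      Nonempty (↥(Cfsg.inndiagPSL n F ⊓ Subgroup.centralizer {γ₂}) ≃* Cfsg.PGO F (Cfsg.quadFormPlus m F)) ∧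
      Nonempty (↥(Cfsg.inndiagPSL n F ⊓ Subgroup.centralizer {γ₃}) ≃*
        Cfsg.PGO F (Cfsg.quadFormMinus (m - 1) F a b)) := by
  obtain ⟨D⟩ := exists_stdData (n := n) (F := F) hodd (by omega : 1 ≤ m) hnm
  have hn3 : 3 ≤ n := by omega
  have hn : 2 ≤ n := by omega
  refine ⟨gam D.J, gam D.P, gam D.N, D.a, D.b, D.hab, isGraph_gam hn3 _, orderOf_gam p hn3 (Or.inr D.J_skew),
    isGraph_gam hn3 _, orderOf_gam p hn3 (Or.inl D.P_sym), isGraph_gam hn3 _, orderOf_gam p hn3 (Or.inl D.N_sym),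
    fun h => ?_, fun h => ?_, fun h => ?_, fun γ hγ h2 => ?_, D.centralizer_J p hn, D.centralizer_P p hn,
    D.centralizer_N p hn⟩
  · obtain ⟨g, c, e⟩ := (conjUnder_iff p hn _ _).mp h
    exact D.not_cong_sym (by omega) D.P_sym c g e
  · obtain ⟨g, c, e⟩ := (conjUnder_iff p hn _ _).mp h
    exact D.not_cong_sym (by omega) D.N_sym c g e
  · obtain ⟨g, c, e⟩ := (conjUnder_iff p hn _ _).mp h
    exact D.not_cong_PN (by omega) hnm c g e
  · obtain ⟨M, rfl, hM⟩ := exists_gam p hγ h2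
    rcases D.classify hodd (by omega) hnm hM with ⟨⟨g, hg⟩, -⟩ | ⟨⟨g, hg⟩ | ⟨g, hg⟩, -⟩
    · exact Or.inl ((conjUnder_iff p hn _ _).mpr ⟨g, 1, by rw [hg, Units.val_one, one_smul]⟩)
    · exact Or.inr (Or.inl ((conjUnder_iff p hn _ _).mpr ⟨g, 1, by rw [hg, Units.val_one, one_smul]⟩))
    · exact Or.inr (Or.inr ((conjUnder_iff p hn _ _).mpr ⟨g, 1, by rw [hg, Units.val_one, one_smul]⟩))

theorem invTr_eq_gam : (invTr : MulAut (Matrix.ProjectiveSpecialLinearGroup (Fin n) F)) = gam 1 := by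
  rw [gam, inv_one, map_one, one_mul]

theorem parity_iff (hodd : Odd (Fintype.card F)) (hnm : n = 2 * m) :
    IsSquare ((-1 : F) ^ m) ↔ Even (n * (Fintype.card F - 1) / 4) := by
  obtain ⟨k, hk⟩ := hodd
  rw [hnm, hk, show 2 * m * (2 * k + 1 - 1) = 4 * (m * k) by rw [Nat.add_sub_cancel]; ring,
    Nat.mul_div_cancel_left _ (by norm_num)]
  have hneg : IsSquare (-1 : F) ↔ Even k := by
    rw [FiniteField.isSquare_neg_one_iff, hk, Nat.even_iff]
    omega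
  rw [Nat.even_mul, ← hneg]
  rcases Nat.even_or_odd m with hm | hm
  · simp [hm]
  · rw [hm.neg_one_pow]
    simp [Nat.not_even_iff_odd.mpr hm]

theorem s2703 (p : ℕ) [Fact p.Prime] [CharP F p] (hodd : Odd (Fintype.card F)) (hm : 2 ≤ m) (hnm : n = 2 * m)
    (ι : MulAut (Matrix.ProjectiveSpecialLinearGroup (Fin n) F)) (hι : Cfsg.IsInverseTransposeAutPSL ι) :
    (Even (n * (Fintype.card F - 1) / 4) →
      Nonempty (↥(Cfsg.inndiagPSL n F ⊓ Subgroup.centralizer {ι}) ≃* Cfsg.PGO F (Cfsg.quadFormPlus m F))) ∧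
    (¬ Even (n * (Fintype.card F - 1) / 4) → ∃ a b : F,
      (∀ z₁ z₂ : F, z₁ ^ 2 + a * z₁ * z₂ + b * z₂ ^ 2 = 0 → z₁ = 0 ∧ z₂ = 0) ∧
      Nonempty (↥(Cfsg.inndiagPSL n F ⊓ Subgroup.centralizer {ι}) ≃*
        Cfsg.PGO F (Cfsg.quadFormMinus (m - 1) F a b))) := by
  obtain rfl := eq_invTr_of_isInverseTranspose hι
  obtain ⟨D⟩ := exists_stdData (n := n) (F := F) hodd (by omega : 1 ≤ m) hnm
  rw [invTr_eq_gam, ← parity_iff hodd hnm]
  have hn : 2 ≤ n := by omega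
  have key : ∀ S : GL (Fin n) F, (S : Mat)ᵀ = (S : Mat) → IsSquare (S : Mat).det →
      Nonempty (↥(Cfsg.inndiagPSL n F ⊓ Subgroup.centralizer {gam (1 : GL (Fin n) F)}) ≃*
        ↥(Cfsg.inndiagPSL n F ⊓ Subgroup.centralizer {gam S})) := by
    intro S hS hsq
    refine (centralizer_conj p hn 1 ?_).2
    rw [show ((1 : Fˣ) : F) • (S : Mat) = (S : Mat) by simp]
    refine cong_of_symm D.h2 (by simp) hS (by simp) (GeneralLinearGroup.det S).ne_zero ?_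
    simpa using hsq
  constructor
  · intro h
    obtain ⟨a⟩ := key D.P D.P_sym (by rw [D.det_P]; exact h)
    obtain ⟨b⟩ := D.centralizer_P p hn
    exact ⟨a.trans b⟩
  · intro h
    obtain ⟨a⟩ := key D.N D.N_sym (by
      rw [D.det_N (by omega)]; exact isSquare_mul_of_not hodd h (discr_not_isSquare D.h2 D.hab))
    obtain ⟨b⟩ := D.centralizer_N p hn
    exact ⟨D.a, D.b, D.hab, ⟨a.trans b⟩⟩

end Even

/-- Odd dimension. -/
theorem s2699_odd {n m : ℕ} {F : Type*} [Field F] [Fintype F] (p : ℕ) [Fact p.Prime] [CharP F p]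
    (h2 : (2 : F) ≠ 0) (hn : 3 ≤ n) (hnm : n = 2 * m + 1)
    {γ γ' : MulAut (Matrix.ProjectiveSpecialLinearGroup (Fin n) F)} (hγ : Cfsg.IsGraphAutClassPSL γ)
    (hγ2 : orderOf γ = 2) (hγ' : Cfsg.IsGraphAutClassPSL γ') (hγ'2 : orderOf γ' = 2) :
    Nonempty (↥(Cfsg.inndiagPSL n F ⊓ Subgroup.centralizer {γ}) ≃* Cfsg.PGO F (Cfsg.quadFormOdd m F)) ∧
      Cfsg.IsConjUnder (Cfsg.inndiagPSL n F) γ γ' := by
  classical
  let e : Unit ⊕ (Fin m ⊕ Fin m) ≃ Fin n := Fintype.equivFinOfCardEq (by simp; omega)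
  have h0 : (oddMatrix m F + (oddMatrix m F)ᵀ).det ≠ 0 := by rw [det_oddGram]; simp [h2]
  set O := stdGL e _ h0
  have hO : (O : Matrix (Fin n) (Fin n) F)ᵀ = (O : Matrix (Fin n) (Fin n) F) := by
    rw [stdGL_coe, Matrix.transpose_reindex, sym_gram]
  have key : ∀ {M : GL (Fin n) F}, ((M : Matrix (Fin n) (Fin n) F)ᵀ = (M : Matrix (Fin n) (Fin n) F) ∨
      (M : Matrix (Fin n) (Fin n) F)ᵀ = -(M : Matrix (Fin n) (Fin n) F)) →
      ∃ c : Fˣ, Cong (M : Matrix (Fin n) (Fin n) F) ((c : F) • (O : Matrix (Fin n) (Fin n) F)) := by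
    intro M hM
    have hd := (GeneralLinearGroup.det M).ne_zero
    have hdO := (GeneralLinearGroup.det O).ne_zero
    have hsym : (M : Matrix (Fin n) (Fin n) F)ᵀ = (M : Matrix (Fin n) (Fin n) F) := by
      refine hM.resolve_right fun h => hd ?_
      have h' := congrArg Matrix.det h
      rw [det_transpose, det_neg, Fintype.card_fin, Odd.neg_one_pow (show Odd n by rw [hnm]; exact odd_two_mul_add_one m)] at h'
      exact (mul_eq_zero.mp (show (2 : F) * (M : Matrix (Fin n) (Fin n) F).det = 0 by linear_combination h')).resolve_left h2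
    refine ⟨GeneralLinearGroup.det M * GeneralLinearGroup.det O, cong_of_symm h2 hsym (by rw [transpose_smul, hO]) hd ?_ ?_⟩
    · rw [det_smul]; exact mul_ne_zero (pow_ne_zero _ (Units.ne_zero _)) hdO
    · rw [det_smul, Fintype.card_fin, show ∀ x : F, x ^ n = (x ^ m) ^ 2 * x from fun x => by
        rw [← pow_mul, ← pow_succ]; congr 1; omega, Units.val_mul]
      exact ⟨((GeneralLinearGroup.det M : F) * (GeneralLinearGroup.det O : F)) ^ m *
        ((GeneralLinearGroup.det M : F) * (GeneralLinearGroup.det O : F)),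
        by simp only [GeneralLinearGroup.val_det_apply]; ring⟩
  obtain ⟨M, rfl, hM⟩ := exists_gam p hγ hγ2
  obtain ⟨M', rfl, hM'⟩ := exists_gam p hγ' hγ'2
  obtain ⟨c, hc⟩ := key hM
  obtain ⟨c', hc'⟩ := key hM'
  obtain ⟨h1, ⟨a⟩⟩ := centralizer_conj p (by omega) c hc
  obtain ⟨b⟩ := centralizer_std p (show 2 ≤ n by omega) e _ h0 _
    (show Cfsg.Geo.quadSimilarityGroup (Cfsg.quadFormOdd m F) = _ by rw [quadFormOdd_eq, quadSim_eq h2])
  refine ⟨⟨a.trans b⟩, ?_⟩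
  obtain ⟨⟨x, hx, ex⟩, -⟩ := centralizer_conj p (show 2 ≤ n by omega) c' hc'
  obtain ⟨y, hy, ey⟩ := h1
  exact ⟨x⁻¹ * y, mul_mem (inv_mem hx) hy, by rw [_root_.mul_inv_rev, inv_inv,
    show x⁻¹ * y * gam M * (y⁻¹ * x) = x⁻¹ * (y * gam M * y⁻¹) * x by group, ← ey, ex]; group⟩

end Cfsg.Agent.Lib.Geometry.GraphAut
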