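import Cfsg.Agent.Lib.Geometry.GraphAut.Sim
import Cfsg.Agent.Lib.Classical.AutPSL.FieldClass

/-!
Involutory graph automorphisms of `PSL_n` as symmetric or skew-symmetric matrices.
-/

set_option autoImplicit false

namespace Cfsg.Agent.Lib.Geometry.GraphAut

open Matrix
open Cfsg.Agent.Lib.Classical.AutPSL

variable {n : ℕ} {F : Type*} [Field F] [Fintype F]

local notation "PSLn" => Matrix.ProjectiveSpecialLinearGroup (Fin n) F
local notation "GLn" => GL (Fin n) F
local notation "Mat" => Matrix (Fin n) (Fin n) F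

/-- The graph automorphism of an invertible matrix. -/
noncomputable def gam (M : GLn) : MulAut PSLn := dia M⁻¹ * invTr

omit [Fintype F] in
theorem mem_center_iff {z : GLn} : z ∈ Subgroup.center GLn ↔ ∃ c : Fˣ, (z : Mat) = (c : F) • 1 := by
  rw [← scalars_eq_center, Cfsg.Geo.mem_scalars_iff]

theorem dia_eq_iff (p : ℕ) [Fact p.Prime] [CharP F p] (hn : 2 ≤ n) {a b : GLn} :
    dia a = dia b ↔ ∃ c : Fˣ, (b : Mat) = (c : F) • (a : Mat) := by
  rw [← inv_mul_eq_one (a := dia a), ← map_inv, ← map_mul, ← MonoidHom.mem_ker, ker_dia hn p, mem_center_iff]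
  refine exists_congr fun c => ⟨fun h => ?_, fun h => ?_⟩
  · have := congrArg (fun X => (a : Mat) * X) h
    simpa [← mul_assoc, ← Units.val_mul] using this
  · rw [Units.val_mul, h, mul_smul_comm, ← Units.val_mul, inv_mul_cancel, Units.val_one]

omit [Fintype F] in
theorem invTr_dia (g : GLn) : (invTr : MulAut PSLn) * dia g = dia (itGL g) * invTr := invTr_mul_dia g

omit [Fintype F] in
theorem itGL_inv (g : GLn) : itGL g⁻¹ = (itGL g)⁻¹ := map_inv _ g

theorem gam_eq_iff (p : ℕ) [Fact p.Prime] [CharP F p] (hn : 2 ≤ n) {M N : GLn} :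
    gam M = gam N ↔ ∃ c : Fˣ, (N : Mat) = (c : F) • (M : Mat) := by
  rw [gam, gam, mul_left_inj, map_inv, map_inv, _root_.inv_inj, dia_eq_iff p hn]

/-- The congruent matrix. -/
noncomputable def congr' (h M : GLn) : GLn := (itGL h)⁻¹ * M * h

omit [Fintype F] in
theorem congr'_coe (h M : GLn) : (congr' h M : Mat) = (h : Mat)ᵀ * (M : Mat) * (h : Mat) := by
  rw [congr', Units.val_mul, Units.val_mul, itGL_inv_coe]

omit [Fintype F] in
theorem gam_conj (h M : GLn) : (dia h)⁻¹ * gam M * ((dia h)⁻¹)⁻¹ = gam (congr' h M) := by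
  rw [gam, gam, inv_inv, mul_assoc, mul_assoc, invTr_dia, congr', _root_.mul_inv_rev, _root_.mul_inv_rev, inv_inv]
  simp only [map_mul, map_inv, mul_assoc]

omit [Fintype F] in
theorem gam_sq (M : GLn) : gam M * gam M = dia (M⁻¹ * itGL M⁻¹) := by
  rw [gam, mul_assoc, ← mul_assoc invTr, invTr_dia, mul_assoc, invTr_mul_self, mul_one, map_mul]

theorem conjUnder_iff (p : ℕ) [Fact p.Prime] [CharP F p] (hn : 2 ≤ n) (M N : GLn) :
    Cfsg.IsConjUnder (Cfsg.inndiagPSL n F) (gam M) (gam N) ↔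
      ∃ (h : GLn) (c : Fˣ), (N : Mat) = (c : F) • ((h : Mat)ᵀ * (M : Mat) * (h : Mat)) := by
  rw [Cfsg.IsConjUnder, inndiag_eq]
  constructor
  · rintro ⟨_, ⟨g, rfl⟩, e⟩
    obtain ⟨c, hc⟩ := (gam_eq_iff p hn).mp (show gam (congr' g⁻¹ M) = gam N by
      rw [← gam_conj, map_inv, inv_inv, e])
    exact ⟨g⁻¹, c, by rw [hc, congr'_coe]⟩
  · rintro ⟨h, c, hc⟩
    refine ⟨(dia h)⁻¹, ⟨h⁻¹, map_inv _ _⟩, ?_⟩
    rw [gam_conj]
    exact ((gam_eq_iff p hn).mpr ⟨c, by rw [hc, congr'_coe]⟩).symm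

theorem isGraph_gam (hn : 3 ≤ n) (M : GLn) : Cfsg.IsGraphAutClassPSL (gam M) := by
  refine ⟨hn, dia M⁻¹, invTr, isInnerDiagonal_dia _, ?_, rfl⟩
  intro s s' h
  show invTr (proj s) = proj s'
  rw [invTr_proj]
  exact congrArg proj (sl_ext h.symm)

theorem orderOf_gam (p : ℕ) [Fact p.Prime] [CharP F p] (hn : 3 ≤ n) {M : GLn}
    (hM : (M : Mat)ᵀ = (M : Mat) ∨ (M : Mat)ᵀ = -(M : Mat)) : orderOf (gam M) = 2 := by
  haveI : Fact (Nat.Prime 2) := ⟨Nat.prime_two⟩
  have hn2 : 2 ≤ n := by omega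
  refine orderOf_eq_prime ?_ fun h => ?_
  · rw [pow_two, gam_sq, ← map_one (dia (n := n) (F := F)), dia_eq_iff p hn2, Units.val_one]
    obtain ⟨c, hc⟩ : ∃ c : Fˣ, (M : Mat)ᵀ = (c : F) • (M : Mat) := by
      rcases hM with h | h
      · exact ⟨1, by rw [h, Units.val_one, one_smul]⟩
      · exact ⟨-1, by rw [h, Units.val_neg, Units.val_one, neg_smul, one_smul]⟩
    refine ⟨c⁻¹, ?_⟩
    rw [itGL_inv, Units.val_mul, itGL_inv_coe, hc, mul_smul_comm, ← Units.val_mul, inv_mul_cancel, smul_smul,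
      ← Units.val_mul, inv_mul_cancel]
    simp
  · have e : dia M⁻¹ * outerPart ((1, gra) : (F ≃+* F) × Multiplicative (ZMod 2)) = (1 : MulAut PSLn) := by
      rw [outerPart_gra, show (fld (n := n) (1 : F ≃+* F)) = 1 from map_one fld, one_mul]
      exact h
    exact gra_ne_one (congrArg Prod.snd (outerPart_eq_one p hn2 (Or.inr hn) e).1)

theorem exists_gam (p : ℕ) [Fact p.Prime] [CharP F p] {γ : MulAut PSLn}
    (hγ : Cfsg.IsGraphAutClassPSL γ) (h2 : orderOf γ = 2) :
    ∃ M : GLn, γ = gam M ∧ ((M : Mat)ᵀ = (M : Mat) ∨ (M : Mat)ᵀ = -(M : Mat)) := by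
  obtain ⟨hn, δ, ι, ⟨g, hg⟩, hι, rfl⟩ := hγ
  have hn2 : 2 ≤ n := by omega
  have hδ : δ = dia g := by
    ext x
    obtain ⟨s, rfl⟩ := proj_surjective x
    rw [dia_proj]
    exact hg s (conjSL g s) rfl
  obtain rfl := eq_invTr_of_isInverseTranspose hι
  refine ⟨g⁻¹, by rw [gam, inv_inv, hδ], ?_⟩
  have h := pow_orderOf_eq_one (δ * invTr)
  rw [h2, pow_two, hδ, ← show gam g⁻¹ = dia g * invTr by rw [gam, inv_inv], gam_sq,
    ← map_one (dia (n := n) (F := F)), dia_eq_iff p hn2, inv_inv] at h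
  obtain ⟨c, hc⟩ := h
  set M : Mat := ((g⁻¹ : GLn) : Mat) with hMdef
  have hMt : Mᵀ = (c : F)⁻¹ • M := by
    have := congrArg (fun X => ((g⁻¹ : GLn) : Mat) * X) hc
    simp only [mul_smul_comm] at this
    rw [Units.val_one, mul_one, ← Units.val_mul, inv_mul_cancel_left, itGL_coe] at this
    rw [eq_inv_smul_iff₀ c.ne_zero]
    exact this.symm
  have hM0 : M ≠ 0 := fun h0 => by
    have hg0 := congrArg (fun X => (g : Mat) * X) h0
    haveI : Nonempty (Fin n) := ⟨⟨0, by omega⟩⟩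
    exact one_ne_zero (α := Mat) (by simpa [hMdef] using hg0)
  have hcc : (c : F)⁻¹ * (c : F)⁻¹ = 1 := by
    have h1 := congrArg Matrix.transpose hMt
    rw [transpose_transpose, transpose_smul, hMt, smul_smul] at h1
    exact smul_left_injective F hM0 (show ((c : F)⁻¹ * (c : F)⁻¹) • M = (1 : F) • M by rw [← h1, one_smul])
  rcases mul_self_eq_one_iff.mp hcc with h | h
  · exact Or.inl (by rw [hMt, h, one_smul])
  · exact Or.inr (by rw [hMt, h, neg_smul, one_smul])

theorem mem_centralizer_gam (p : ℕ) [Fact p.Prime] [CharP F p] (hn : 2 ≤ n) (M h : GLn) :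
    dia h ∈ Subgroup.centralizer {gam M} ↔ h ∈ simGroup (M : Mat) := by
  rw [Subgroup.mem_centralizer_singleton_iff]
  constructor
  · intro e
    have e' : gam M = gam (congr' h M) := by
      rw [← gam_conj, inv_inv, mul_assoc, ← e, inv_mul_cancel_left]
    obtain ⟨c, hc⟩ := (gam_eq_iff p hn).mp e'
    exact ⟨c, (congr'_coe h M).symm.trans hc⟩
  · rintro ⟨c, hc⟩
    have e' := (gam_eq_iff p hn (M := M) (N := congr' h M)).mpr ⟨c, (congr'_coe h M).trans hc⟩
    rw [← gam_conj, inv_inv] at e'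
    conv_lhs => rw [e']
    group

theorem centralizer_iso (p : ℕ) [Fact p.Prime] [CharP F p] (hn : 2 ≤ n) (M : GLn) :
    Nonempty (↥(Cfsg.inndiagPSL n F ⊓ Subgroup.centralizer {gam M}) ≃* Cfsg.projQuot (simGroup (M : Mat))) := by
  let ψ : simGroup (M : Mat) →* ↥(Cfsg.inndiagPSL n F ⊓ Subgroup.centralizer {gam M}) :=
    (dia.comp (simGroup (M : Mat)).subtype).codRestrict _ fun h =>
      ⟨by rw [SetLike.mem_coe, inndiag_eq]; exact ⟨_, rfl⟩, (mem_centralizer_gam p hn M h).mpr h.2⟩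
  have hsur : Function.Surjective ψ := by
    rintro ⟨y, hy, hc⟩
    rw [SetLike.mem_coe, inndiag_eq] at hy
    obtain ⟨g, rfl⟩ := hy
    exact ⟨⟨g, (mem_centralizer_gam p hn M g).mp hc⟩, rfl⟩
  have hker : ψ.ker = (Cfsg.Geo.scalars (Fin n) F).subgroupOf (simGroup (M : Mat)) := by
    ext g
    rw [MonoidHom.mem_ker, Subgroup.mem_subgroupOf, scalars_eq_center, ← ker_dia hn p, MonoidHom.mem_ker]
    exact Subtype.ext_iff
  exact ⟨(QuotientGroup.quotientKerEquivOfSurjective ψ hsur).symm.trans (QuotientGroup.quotientMulEquivOfEq hker)⟩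

/-- The number of classes into which the class of `gam M` splits. -/
theorem split_gam (p : ℕ) [Fact p.Prime] [CharP F p] (hn : 2 ≤ n) (M : GLn) (A : Subgroup Fˣ)
    (hA : (simGroup (M : Mat)).map GeneralLinearGroup.det ⊔ (powMonoidHom n : Fˣ →* Fˣ).range =
      A ⊔ (powMonoidHom n : Fˣ →* Fˣ).range) :
    Cfsg.splitClassCount (Cfsg.inndiagPSL n F) (Cfsg.Inn PSLn) (gam M) =
      Nat.gcd n ((Fintype.card F - 1) / Nat.card A) := by
  classical
  have hnorm : ∀ a ∈ (dia (n := n) (F := F)).range, ∀ k ∈ Cfsg.Inn PSLn, a * k * a⁻¹ ∈ Cfsg.Inn PSLn := by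
    rintro a - _ ⟨y, rfl⟩
    exact ⟨a y, MulEquiv.ext fun z => by simp [MulAut.conj_apply]⟩
  rw [inndiag_eq, card_quot_conj _ _ inn_le_range hnorm]
  set C := (dia (n := n) (F := F)).range ⊓ Subgroup.centralizer {gam M}
  set S := A ⊔ (powMonoidHom n : Fˣ →* Fˣ).range with hS
  set H := simGroup (M : Mat) with hH
  have hinn : ∀ g : GLn, GeneralLinearGroup.det g = 1 → dia g ∈ Cfsg.Inn PSLn := by
    intro g hg
    refine ⟨proj ⟨(g : Mat), congrArg Units.val hg⟩, ?_⟩
    show MulAut.conj (proj _) = _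
    exact (conj_eq_dia _).trans (congrArg dia (Units.ext rfl))
  have hinn' : Cfsg.Inn PSLn ≤ ((GeneralLinearGroup.det : GLn →* Fˣ).ker).map dia := by
    rintro _ ⟨y, rfl⟩
    obtain ⟨s, rfl⟩ := proj_surjective y
    exact ⟨Matrix.SpecialLinearGroup.toGL s, Units.ext s.2, (conj_eq_dia s).symm⟩
  have hCI : C ⊔ Cfsg.Inn PSLn = (H ⊔ (GeneralLinearGroup.det : GLn →* Fˣ).ker).map dia := by
    rw [Subgroup.map_sup]
    refine le_antisymm (sup_le ?_ (hinn'.trans le_sup_right)) (sup_le ?_ ?_)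
    · rintro _ ⟨⟨g, rfl⟩, hc⟩
      exact Subgroup.mem_sup_left ⟨g, (mem_centralizer_gam p hn M g).mp hc, rfl⟩
    · rintro _ ⟨g, hg, rfl⟩
      exact Subgroup.mem_sup_left ⟨⟨g, rfl⟩, (mem_centralizer_gam p hn M g).mpr hg⟩
    · rintro _ ⟨g, hg, rfl⟩
      exact Subgroup.mem_sup_right (hinn g hg)
  have hcomap : (C ⊔ Cfsg.Inn PSLn).comap dia = S.comap GeneralLinearGroup.det := by
    rw [hCI, Subgroup.comap_map_eq, ker_dia hn p]
    apply le_antisymm
    · refine sup_le (sup_le ?_ ?_) ?_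
      · intro g hg
        show GeneralLinearGroup.det g ∈ S
        rw [← hA]
        exact Subgroup.mem_sup_left ⟨g, hg, rfl⟩
      · intro g hg
        show GeneralLinearGroup.det g ∈ S
        rw [MonoidHom.mem_ker] at hg
        rw [hg]
        exact one_mem S
      · exact fun g hg => Subgroup.mem_sup_right (det_center hg)
    · intro g hg
      have hd : GeneralLinearGroup.det g ∈ H.map GeneralLinearGroup.det ⊔ (powMonoidHom n : Fˣ →* Fˣ).range := by
        rw [hA]; exact hg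
      obtain ⟨_, ⟨h, hh, rfl⟩, _, ⟨u, rfl⟩, e⟩ := Subgroup.mem_sup.mp hd
      set z := GeneralLinearGroup.scalar (Fin n) u with hzdef
      have hz : GeneralLinearGroup.det z = powMonoidHom n u := Units.ext (by
        show (Matrix.scalar (Fin n) (u : F)).det = _
        simp [Matrix.scalar_apply, Matrix.det_diagonal])
      rw [← hz, ← map_mul] at e
      have hk : (h * z)⁻¹ * g ∈ (GeneralLinearGroup.det : GLn →* Fˣ).ker := by
        rw [MonoidHom.mem_ker, map_mul, map_inv, e, inv_mul_cancel]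
      rw [show g = h * z * ((h * z)⁻¹ * g) by group]
      exact mul_mem (mul_mem (Subgroup.mem_sup_left (Subgroup.mem_sup_left hh))
        (Subgroup.mem_sup_right (scalar_mem_center u))) (Subgroup.mem_sup_left (Subgroup.mem_sup_right hk))
  rw [← Subgroup.index_comap, hcomap,
    Subgroup.index_comap_of_surjective _ (fun u => exists_gl_det (by omega) u), hS, index_sup_range_pow,
    Nat.card_units, Nat.card_eq_fintype_card]

end Cfsg.Agent.Lib.Geometry.GraphAut
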