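import Cfsg.Agent.Lib.Geometry.GraphAut.Odd
import Cfsg.Agent.Lib.Geometry.SympBasis
import Cfsg.Agent.Lib.Classical.OrthOddEven
import Cfsg.Prelude.Def_ClassicalGeometry

/-!
Symmetric matrices in characteristic two, and the corresponding graph automorphisms.
-/

set_option autoImplicit false

namespace Cfsg.Agent.Lib.Geometry.GraphAut

open Matrix
open Cfsg.Agent.Lib.Classical (spT spT_mulVec spT_conj spToGL exists_sp_mulVec_eq exists_sympForm_eq_one sp_ext)

variable {F : Type*} [Field F] [Fintype F] [CharP F 2]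

theorem exists_sqrt' (c : F) : ∃ z : F, z * z = c := by
  obtain ⟨z, hz⟩ := FiniteField.isSquare_of_char_two (ringChar.eq F 2) c
  exact ⟨z, hz.symm⟩

section Generic

variable {ι : Type} [Fintype ι] [DecidableEq ι]

omit [Fintype F] in
theorem sq_one {z : F} (h : z * z = 1) : z = 1 := by
  rcases mul_self_eq_one_iff.mp h with e | e
  · exact e
  · rw [e, CharTwo.neg_eq]

/-- In characteristic two projective similitudes are isometries. -/
theorem projSim_iso (M : Matrix ι ι F) (hM : M ≠ 0) : Nonempty (Cfsg.projQuot (simGroup M) ≃* isoGroup M) := by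
  obtain ⟨a⟩ := projQuot_sim_iso M fun g hg => by
    obtain ⟨c, hc⟩ := hg
    obtain ⟨z, hz⟩ := exists_sqrt' ((c⁻¹ : Fˣ) : F)
    have hz0 : z ≠ 0 := fun h => (c⁻¹).ne_zero (by rw [← hz, h, mul_zero])
    refine ⟨GeneralLinearGroup.scalar ι (Units.mk0 z hz0), ⟨_, rfl⟩, ?_⟩
    show ((GeneralLinearGroup.scalar ι (Units.mk0 z hz0) * g : GL ι F) : Matrix ι ι F)ᵀ * M * _ = M
    rw [Units.val_mul, show (GeneralLinearGroup.scalar ι (Units.mk0 z hz0) : Matrix ι ι F) = z • 1 from
      (Matrix.smul_one_eq_diagonal z).symm, smul_mul_assoc, one_mul, transpose_smul, smul_mul_assoc, mul_smul_comm,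
      smul_mul_assoc, smul_smul, hz, hc, smul_smul, ← Units.val_mul, inv_mul_cancel, Units.val_one, one_smul]
  refine ⟨a.symm.trans ((QuotientGroup.quotientMulEquivOfEq ?_).trans QuotientGroup.quotientBot)⟩
  rw [eq_bot_iff]
  rintro ⟨g, hg⟩ hs
  rw [Subgroup.mem_subgroupOf] at hs
  obtain ⟨c, hc⟩ := (Cfsg.Geo.mem_scalars_iff g).mp hs
  have h : (g : Matrix ι ι F)ᵀ * M * (g : Matrix ι ι F) = M := hg
  rw [hc, transpose_smul, transpose_one, smul_mul_assoc, one_mul, mul_smul_comm, mul_one, smul_smul] at h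
  have hc1 := sq_one (z := (c : F)) (smul_left_injective F hM (show ((c : F) * c) • M = (1 : F) • M by rw [h, one_smul]))
  rw [Subgroup.mem_bot]
  exact Subtype.ext (Units.ext (hc.trans (by rw [hc1, one_smul]; rfl)))

/-- The projective similitudes of a quadratic form are its isometries. -/
theorem projQuad_iso (Q : (ι → F) → F) (hQ : ∀ (c : F) v, Q (c • v) = c * c * Q v) (hne : ∃ v, Q v ≠ 0) :
    Nonempty (Cfsg.projQuot (Cfsg.Geo.quadSimilarityGroup Q) ≃* Cfsg.isometryGroup F Q) := by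
  set K := Cfsg.Geo.quadSimilarityGroup Q with hK
  let ψ : Cfsg.isometryGroup F Q →* Cfsg.projQuot K :=
    (QuotientGroup.mk' _).comp (Subgroup.inclusion (fun g hg => ⟨1, fun v => by
      rw [Units.val_one, one_mul]; exact hg v v⟩))
  have hs : ∀ (z : F) (g : Matrix ι ι F) v, Q (((z • (1 : Matrix ι ι F)) * g) *ᵥ v) = z * z * Q (g *ᵥ v) := by
    intro z g v
    rw [smul_mul_assoc, one_mul, smul_mulVec, hQ]
  refine ⟨(MulEquiv.ofBijective ψ ⟨?_, ?_⟩).symm⟩
  · rw [injective_iff_map_eq_one]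
    intro g hg
    have hmem := (QuotientGroup.eq_one_iff _).mp hg
    rw [Subgroup.mem_subgroupOf] at hmem
    obtain ⟨c, hc⟩ := (Cfsg.Geo.mem_scalars_iff _).mp hmem
    obtain ⟨v, hv⟩ := hne
    have h : Q ((g.1 : Matrix ι ι F) *ᵥ v) = Q v := g.2 v v
    rw [show (g.1 : Matrix ι ι F) = (c : F) • 1 from hc, smul_mulVec, one_mulVec, hQ] at h
    have hc1 := sq_one (z := (c : F)) (mul_right_cancel₀ hv (h.trans (one_mul _).symm))
    exact Subtype.ext (Units.ext (hc.trans (by rw [hc1, one_smul]; rfl)))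
  · intro y
    induction y using QuotientGroup.induction_on with | _ g => ?_
    obtain ⟨c, hc⟩ := g.2
    obtain ⟨z, hz⟩ := exists_sqrt' ((c⁻¹ : Fˣ) : F)
    have hz0 : z ≠ 0 := fun h => (c⁻¹).ne_zero (by rw [← hz, h, mul_zero])
    set s := GeneralLinearGroup.scalar ι (Units.mk0 z hz0)
    have hsc : s ∈ Cfsg.Geo.scalars ι F := ⟨_, rfl⟩
    refine ⟨⟨s * g.1, fun u w => ?_⟩, QuotientGroup.eq.mpr ?_⟩
    · show Q (((s * g.1 : GL ι F) : Matrix ι ι F) *ᵥ u) = Q u
      rw [Units.val_mul, show (s : Matrix ι ι F) = z • 1 from (Matrix.smul_one_eq_diagonal z).symm, hs, hz, hc,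
        ← mul_assoc, ← Units.val_mul, inv_mul_cancel, Units.val_one, one_mul]
    · rw [Subgroup.mem_subgroupOf]
      show (s * g.1)⁻¹ * g.1 ∈ _
      rw [_root_.mul_inv_rev, mul_assoc]
      rw [scalars_eq_center] at hsc ⊢
      rw [← (Subgroup.mem_center_iff.mp (inv_mem hsc) g.1), inv_mul_cancel_left]
      exact inv_mem hsc

omit [Fintype F] in
theorem rankOne (t : ι → F) (u v : ι → F) : u ⬝ᵥ (vecMulVec t t *ᵥ v) = (t ⬝ᵥ u) * (t ⬝ᵥ v) := by
  rw [vecMulVec_mulVec, op_smul_eq_smul, dotProduct_smul, dotProduct_comm u t, smul_eq_mul]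
  ring

end Generic

/-- A symmetric matrix plus the square of its diagonal root is alternating. -/
theorem exists_root {n : ℕ} {M : Matrix (Fin n) (Fin n) F} (hM : Mᵀ = M) :
    ∃ s : Fin n → F, (∀ v, v ⬝ᵥ ((M + vecMulVec s s) *ᵥ v) = 0) ∧ ((∀ i, M i i = 0) → s = 0) := by
  choose r hr using fun i => exists_sqrt' (M i i)
  refine ⟨r, fun v => ?_, fun h => funext fun i => mul_self_eq_zero.mp ((hr i).trans (h i))⟩
  set A := M + vecMulVec r r with hA
  have hdiag : ∀ i, A i i = 0 := fun i => by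
    rw [hA, Matrix.add_apply, vecMulVec_apply, hr, CharTwo.add_self_eq_zero]
  have hsym : ∀ i j, A i j = A j i := fun i j => by
    rw [hA, Matrix.add_apply, Matrix.add_apply, vecMulVec_apply, vecMulVec_apply, mul_comm (r i),
      show M i j = M j i from (congrFun (congrFun hM j) i)]
  let U : Matrix (Fin n) (Fin n) F := Matrix.of fun i j => if i < j then A i j else 0
  have hAU : A = U + Uᵀ := by
    ext i j
    rcases lt_trichotomy i j with h | h | h
    · simp [U, h, h.not_gt]
    · subst h; simp [U, hdiag]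
    · simp [U, h, h.not_gt, hsym i j]
  rw [hAU, add_mulVec, dotProduct_add, show v ⬝ᵥ (Uᵀ *ᵥ v) = v ⬝ᵥ (U *ᵥ v) by
    conv_rhs => rw [dotProduct_mulVec, dotProduct_comm, ← Matrix.mulVec_transpose],
    CharTwo.add_self_eq_zero]

/-- The non-alternating matrix in even dimension. -/
def evenStd (m : ℕ) (t : Fin m ⊕ Fin m → F) : Matrix (Fin m ⊕ Fin m) (Fin m ⊕ Fin m) F :=
  Matrix.J (Fin m) F + vecMulVec t t

/-- The matrix in odd dimension. -/
def oddStd (m : ℕ) (F : Type*) [Field F] : Matrix ((Fin m ⊕ Fin m) ⊕ Fin 1) ((Fin m ⊕ Fin m) ⊕ Fin 1) F :=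
  Matrix.fromBlocks (Matrix.J (Fin m) F) 0 0 1

omit [Fintype F] [CharP F 2] in
theorem oddStd_form (m : ℕ) (u v : (Fin m ⊕ Fin m) ⊕ Fin 1 → F) :
    u ⬝ᵥ (oddStd m F *ᵥ v) = Cfsg.sympForm m F (u ∘ Sum.inl) (v ∘ Sum.inl) + u (Sum.inr 0) * v (Sum.inr 0) := by
  rw [oddStd, Matrix.fromBlocks_mulVec, sympForm_eq]
  simp [dotProduct, Fintype.sum_sum_type]

/-- Symmetric non-degenerate matrices in even dimension. -/
theorem classify_even {n m : ℕ} (hnm : n = 2 * m) (hm : 1 ≤ m) {M : Matrix (Fin n) (Fin n) F} (hM : Mᵀ = M)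
    (hd : M.det ≠ 0) (e : Fin m ⊕ Fin m ≃ Fin n) :
    Cong M (Matrix.reindex e e (Matrix.J (Fin m) F)) ∨
      ∀ t : Fin m ⊕ Fin m → F, t ≠ 0 → Cong M (Matrix.reindex e e (evenStd m t)) := by
  classical
  obtain ⟨s, halt, -⟩ := exists_root hM
  set A := M + vecMulVec s s with hA
  by_cases hs : s = 0
  · refine Or.inl (cong_of_alt (fun v => ?_) hd hnm e)
    have := halt v
    rw [hA, hs] at this
    simpa using this
  refine Or.inr fun t ht => ?_
  let B : LinearMap.BilinForm F (Fin n → F) := Matrix.toBilin' A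
  obtain ⟨m', k, b, h12, h11, h22, hr⟩ := exists_sympBasis (B := B) (fun v => by
    show Matrix.toBilin' A v v = 0; rw [Matrix.toBilin'_apply']; exact halt v)
  have hcard := Module.finrank_eq_card_basis b
  rw [Module.finrank_fintype_fun_eq_card] at hcard
  simp only [Fintype.card_fin, Fintype.card_sum] at hcard
  -- the radical is at most a line
  have hrad : ∀ r, (∀ v, B r v = 0) → M *ᵥ r = (s ⬝ᵥ r) • s := by
    intro r hr
    have h0 : A *ᵥ r = 0 := by
      funext i
      have h1 := hr (Pi.single i 1)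
      rw [Matrix.toBilin'_apply'] at h1
      have hAs : Aᵀ = A := by rw [hA, transpose_add, hM, transpose_vecMulVec]
      rw [dotProduct_mulVec, ← hAs, Matrix.vecMul_transpose, dotProduct_single_one] at h1
      exact h1
    rw [hA, add_mulVec, vecMulVec_mulVec, op_smul_eq_smul] at h0
    rw [eq_neg_of_add_eq_zero_left h0]
    ext i
    simp [CharTwo.neg_eq]
  have hk : k ≤ 1 := by
    by_contra hk
    push Not at hk
    let i0 : Fin k := ⟨0, by omega⟩
    let i1 : Fin k := ⟨1, by omega⟩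
    have e0 := hrad _ (hr i0)
    have e1 := hrad _ (hr i1)
    have hz : (s ⬝ᵥ b (Sum.inr i1)) • b (Sum.inr i0) = (s ⬝ᵥ b (Sum.inr i0)) • b (Sum.inr i1) := by
      refine sub_eq_zero.mp (gl_injective hd _ ?_)
      rw [mulVec_sub, mulVec_smul, mulVec_smul, e0, e1, smul_smul, smul_smul, mul_comm, sub_self]
    have h2 := congrArg b.repr hz
    rw [map_smul, map_smul, b.repr_self, b.repr_self] at h2
    have h3 := DFunLike.congr_fun h2 (Sum.inr i1)
    have h01 : (Sum.inr i0 : (Fin m' ⊕ Fin m') ⊕ Fin k) ≠ Sum.inr i1 := by simp [i0, i1]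
    simp [Finsupp.single_eq_of_ne h01.symm, Finsupp.single_eq_same] at h3
    exact b.ne_zero (Sum.inr i0) (gl_injective hd _ (by rw [e0, ← h3, zero_smul]))
  obtain rfl : k = 0 := by omega
  have hAd : A.det ≠ 0 := by
    intro h0
    obtain ⟨v, hv, hv0⟩ := Matrix.exists_mulVec_eq_zero_iff.mpr h0
    refine hv (b.ext_elem fun i => ?_)
    rw [map_zero, Finsupp.zero_apply]
    rcases i with (i | i) | i
    · have h := congrArg (fun w => b (Sum.inl (Sum.inr i)) ⬝ᵥ w) hv0
      simp only [dotProduct_zero] at h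
      rw [← Matrix.toBilin'_apply'] at h
      change B _ v = 0 at h
      rw [← b.sum_repr v, map_sum] at h
      simp only [map_smul, Fintype.sum_sum_type, Finset.univ_eq_empty, Finset.sum_empty, add_zero, h22, smul_zero,
        Finset.sum_const_zero] at h
      have h21 : ∀ j, B (b (Sum.inl (Sum.inr i))) (b (Sum.inl (Sum.inl j))) = if j = i then 1 else 0 := fun j => by
        rw [← LinearMap.IsAlt.neg (B := B) (fun v => by
          show Matrix.toBilin' A v v = 0; rw [Matrix.toBilin'_apply']; exact halt v), h12, CharTwo.neg_eq]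
      simpa [h21, h22] using h
    · have h := congrArg (fun w => b (Sum.inl (Sum.inl i)) ⬝ᵥ w) hv0
      simp only [dotProduct_zero] at h
      rw [← Matrix.toBilin'_apply'] at h
      change B _ v = 0 at h
      rw [← b.sum_repr v, map_sum] at h
      simp only [map_smul, Fintype.sum_sum_type, Finset.univ_eq_empty, Finset.sum_empty, add_zero] at h
      simpa [h11, h12] using h
    · exact i.elim0
  obtain ⟨P, hP⟩ := cong_of_alt halt hAd hnm e
  set u := ((P : Matrix (Fin n) (Fin n) F)ᵀ *ᵥ s) ∘ e with hu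
  have hPM : Cong M (Matrix.reindex e e (evenStd m u)) := by
    refine ⟨P, ?_⟩
    have e1 : M = A + vecMulVec s s := by
      rw [hA, add_assoc]
      ext i j
      simp [CharTwo.add_self_eq_zero]
    rw [e1, mul_add, add_mul, hP, evenStd]
    ext i j
    simp only [Matrix.add_apply, Matrix.reindex_apply, Matrix.submatrix_apply, vecMulVec_apply, hu,
      Function.comp_apply, Equiv.apply_symm_apply, mul_vecMulVec, vecMulVec_mul]
    rw [Matrix.mulVec_transpose]
  refine hPM.trans ?_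
  have hu0 : u ≠ 0 := by
    intro h0
    refine hs (gl_injective (M := (P : Matrix (Fin n) (Fin n) F)ᵀ) (by
      rw [det_transpose]; exact (GeneralLinearGroup.det P).ne_zero) s (funext fun i => ?_))
    have := congrFun h0 (e.symm i)
    simpa [hu] using this
  obtain ⟨g, hg⟩ := exists_sp_mulVec_eq hu0 ht
  let g' : Matrix.symplecticGroup (Fin m) F := ⟨g.1ᵀ, SymplecticGroup.transpose_mem g.2⟩
  refine ⟨reGL e (spToGL m F g'), ?_⟩
  rw [reGL_coe, Matrix.transpose_reindex]
  simp only [Matrix.reindex_apply, Matrix.submatrix_mul_equiv]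
  congr 1
  show g'.1ᵀ * evenStd m u * g'.1 = _
  rw [evenStd, mul_add, add_mul, SymplecticGroup.mem_iff'.mp g'.2, evenStd, mul_vecMulVec, vecMulVec_mul]
  congr 1
  show vecMulVec (g.1ᵀᵀ *ᵥ u) (u ᵥ* g.1ᵀ) = _
  rw [transpose_transpose, hg, Matrix.vecMul_transpose, hg]

/-- Symmetric non-degenerate matrices in odd dimension. -/
theorem classify_odd {n m : ℕ} (hnm : n = 2 * m + 1) {M : Matrix (Fin n) (Fin n) F} (hM : Mᵀ = M)
    (hd : M.det ≠ 0) (e : (Fin m ⊕ Fin m) ⊕ Fin 1 ≃ Fin n) :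
    Cong M (Matrix.reindex e e (oddStd m F)) := by
  classical
  obtain ⟨s, halt, -⟩ := exists_root hM
  set A := M + vecMulVec s s with hA
  let B : LinearMap.BilinForm F (Fin n → F) := Matrix.toBilin' A
  have hBA : B.IsAlt := fun v => by show Matrix.toBilin' A v v = 0; rw [Matrix.toBilin'_apply']; exact halt v
  obtain ⟨m', k, b, h12, h11, h22, hr⟩ := exists_sympBasis (B := B) hBA
  have hcard := Module.finrank_eq_card_basis b
  rw [Module.finrank_fintype_fun_eq_card] at hcard
  simp only [Fintype.card_fin, Fintype.card_sum] at hcard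
  have hsymA : Aᵀ = A := by rw [hA, transpose_add, hM, transpose_vecMulVec]
  have hrad : ∀ r, (∀ v, B r v = 0) → M *ᵥ r = (s ⬝ᵥ r) • s := by
    intro r hr
    have h0 : A *ᵥ r = 0 := by
      funext i
      have h1 := hr (Pi.single i 1)
      rw [Matrix.toBilin'_apply', dotProduct_mulVec, ← hsymA, Matrix.vecMul_transpose, dotProduct_single_one] at h1
      exact h1
    rw [hA, add_mulVec, vecMulVec_mulVec, op_smul_eq_smul] at h0
    rw [eq_neg_of_add_eq_zero_left h0]
    ext i
    simp [CharTwo.neg_eq]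
  have hk : k ≤ 1 := by
    by_contra hk
    push Not at hk
    let i0 : Fin k := ⟨0, by omega⟩
    let i1 : Fin k := ⟨1, by omega⟩
    have e0 := hrad _ (hr i0)
    have e1 := hrad _ (hr i1)
    have hz : (s ⬝ᵥ b (Sum.inr i1)) • b (Sum.inr i0) = (s ⬝ᵥ b (Sum.inr i0)) • b (Sum.inr i1) := by
      refine sub_eq_zero.mp (gl_injective hd _ ?_)
      rw [mulVec_sub, mulVec_smul, mulVec_smul, e0, e1, smul_smul, smul_smul, mul_comm, sub_self]
    have h2 := congrArg b.repr hz
    rw [map_smul, map_smul, b.repr_self, b.repr_self] at h2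
    have h3 := DFunLike.congr_fun h2 (Sum.inr i1)
    have h01 : (Sum.inr i0 : (Fin m' ⊕ Fin m') ⊕ Fin k) ≠ Sum.inr i1 := by simp [i0, i1]
    simp [Finsupp.single_eq_of_ne h01.symm, Finsupp.single_eq_same] at h3
    exact b.ne_zero (Sum.inr i0) (gl_injective hd _ (by rw [e0, ← h3, zero_smul]))
  obtain rfl : k = 1 := by omega
  obtain rfl : m' = m := by omega
  set w := b (Sum.inr 0) with hw
  have hsw : s ⬝ᵥ w ≠ 0 := fun h0 =>
    b.ne_zero (Sum.inr 0) (gl_injective hd _ (by rw [hrad _ (hr 0), ← hw, h0, zero_smul]))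
  let P : (Fin n → F) ≃ₗ[F] ((Fin m' ⊕ Fin m') ⊕ Fin 1 → F) := b.equivFun
  let coef : ((Fin m' ⊕ Fin m') ⊕ Fin 1 → F) →ₗ[F] ((Fin m' ⊕ Fin m') ⊕ Fin 1 → F) :=
    { toFun := fun x => Sum.elim (x ∘ Sum.inl) (fun _ => s ⬝ᵥ P.symm x)
      map_add' := fun x y => by
        funext i; rcases i with i | i <;> simp [map_add, dotProduct_add]
      map_smul' := fun c x => by
        funext i; rcases i with i | i <;> simp [map_smul, dotProduct_smul] }
  have hinj : Function.Injective coef := by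
    rw [← LinearMap.ker_eq_bot, LinearMap.ker_eq_bot']
    intro x hx
    have hl : ∀ i, x (Sum.inl i) = 0 := fun i => congrFun hx (Sum.inl i)
    have hrt : s ⬝ᵥ P.symm x = 0 := congrFun hx (Sum.inr 0)
    have hP : P.symm x = x (Sum.inr 0) • w := by
      rw [b.equivFun_symm_apply, Fintype.sum_sum_type, Fin.sum_univ_one, Finset.sum_eq_zero fun i _ => by
        rw [hl, zero_smul], zero_add]
    rw [hP, dotProduct_smul, smul_eq_mul] at hrt
    funext i
    rcases i with i | i
    · exact hl i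
    · rw [Fin.fin_one_eq_zero i]; exact (mul_eq_zero.mp hrt).resolve_right hsw
  let C := LinearEquiv.ofInjectiveEndo coef hinj
  let f : (Fin n → F) ≃ₗ[F] (Fin n → F) := (P.trans C).trans (LinearEquiv.funCongrLeft F F e.symm)
  refine (cong_of_linearEquiv f fun u v => ?_).symm
  have hf : ∀ u : Fin n → F, f u ∘ e = coef (P u) := fun u => by
    funext i; simp [f, C]
  have key : f u ⬝ᵥ (Matrix.reindex e e (oddStd m' F) *ᵥ f v) = coef (P u) ⬝ᵥ (oddStd m' F *ᵥ coef (P v)) := by
    rw [Matrix.reindex_apply, Matrix.submatrix_mulVec_equiv, Equiv.symm_symm, hf,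
      dotProduct_comp_equiv_symm, hf]
  rw [key, oddStd_form]
  have hM' : u ⬝ᵥ (M *ᵥ v) = B u v + (s ⬝ᵥ u) * (s ⬝ᵥ v) := by
    show _ = Matrix.toBilin' A u v + _
    rw [Matrix.toBilin'_apply', hA, add_mulVec, dotProduct_add, rankOne, add_assoc, CharTwo.add_self_eq_zero,
      add_zero]
  rw [hM']
  congr 1
  · conv_rhs => rw [← b.sum_repr u, ← b.sum_repr v]
    simp only [Fintype.sum_sum_type, map_add, map_sum, map_smul, LinearMap.add_apply, LinearMap.coe_sum, Finset.sum_apply, LinearMap.smul_apply]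
    have h21 : ∀ i j, B (b (Sum.inl (Sum.inr i))) (b (Sum.inl (Sum.inl j))) = if j = i then 1 else 0 := fun i j => by
      rw [← LinearMap.IsAlt.neg hBA, h12, CharTwo.neg_eq]
    have hl : ∀ (j : Fin 1) x, B x (b (Sum.inr j)) = 0 := fun j x => by
      rw [← LinearMap.IsAlt.neg hBA, hr, neg_zero]
    simp only [hr, hl, h11, h22, h12, h21]
    simp [coef, P, Cfsg.sympForm, Matrix.J, Matrix.mulVec, dotProduct, Fintype.sum_sum_type, Matrix.fromBlocks,
      Matrix.one_apply, CharTwo.neg_eq, add_comm, mul_comm]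
  · show (s ⬝ᵥ P.symm (P u)) * (s ⬝ᵥ P.symm (P v)) = _
    rw [LinearEquiv.symm_apply_apply, LinearEquiv.symm_apply_apply]

end Cfsg.Agent.Lib.Geometry.GraphAut
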