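import Cfsg.Agent.Lib.Geometry.GraphAut.CharTwo

/-!
Involutory graph automorphisms of `PSL_n(q)`, `q` even.
-/

set_option autoImplicit false

namespace Cfsg.Agent.Lib.Geometry.GraphAut

open Matrix
open Cfsg.Agent.Lib.Classical (spT spT_mulVec spT_conj spToGL exists_sp_mulVec_eq exists_sympForm_eq_one sp_ext)

variable {F : Type*} [Field F] [Fintype F] [CharP F 2]

omit [Fintype F] in
theorem symm_of_pm {n : ℕ} {M : Matrix (Fin n) (Fin n) F} (h : Mᵀ = M ∨ Mᵀ = -M) : Mᵀ = M := by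
  rcases h with h | h
  · exact h
  · rw [h]; ext i j; simp [CharTwo.neg_eq]

omit [Fintype F] in
theorem J_alt {m : ℕ} : ((Matrix.J (Fin m) F))ᵀ = Matrix.J (Fin m) F := by
  rw [Matrix.J_transpose]
  ext i j; simp [CharTwo.neg_eq]

omit [Fintype F] [CharP F 2] in
theorem oddStd_det (m : ℕ) : (oddStd m F).det ≠ 0 := by
  rw [oddStd, Matrix.det_fromBlocks_zero₂₁, Matrix.det_one, mul_one]
  exact (Matrix.isUnit_det_J (Fin m) F).ne_zero

omit [Fintype F] in
/-- The isometries of the odd dimensional matrix. -/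
theorem iso_oddStd (m : ℕ) : Nonempty (Matrix.symplecticGroup (Fin m) F ≃* isoGroup (oddStd m F)) := by
  let f : Matrix (Fin m ⊕ Fin m) (Fin m ⊕ Fin m) F →* Matrix ((Fin m ⊕ Fin m) ⊕ Fin 1) ((Fin m ⊕ Fin m) ⊕ Fin 1) F :=
    { toFun := fun A => Matrix.fromBlocks A 0 0 1
      map_one' := Matrix.fromBlocks_one
      map_mul' := fun A B => by simp [Matrix.fromBlocks_multiply] }
  let g : Matrix.symplecticGroup (Fin m) F →* GL ((Fin m ⊕ Fin m) ⊕ Fin 1) F :=
    (f.comp (Submonoid.subtype _)).toHomUnits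
  have hg : ∀ A : Matrix.symplecticGroup (Fin m) F,
      (g A : Matrix ((Fin m ⊕ Fin m) ⊕ Fin 1) ((Fin m ⊕ Fin m) ⊕ Fin 1) F) = Matrix.fromBlocks A.1 0 0 1 := fun A => rfl
  let φ : Matrix.symplecticGroup (Fin m) F →* isoGroup (oddStd m F) := g.codRestrict _ fun A => by
    show (g A : Matrix _ _ F)ᵀ * oddStd m F * (g A : Matrix _ _ F) = oddStd m F
    rw [hg, oddStd, Matrix.fromBlocks_transpose, Matrix.fromBlocks_multiply, Matrix.fromBlocks_multiply]
    simp [SymplecticGroup.mem_iff'.mp A.2]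
  refine ⟨MulEquiv.ofBijective φ ⟨fun A B h => ?_, fun h => ?_⟩⟩
  · have h' := congrArg (fun x : isoGroup (oddStd m F) => (x.1 : Matrix ((Fin m ⊕ Fin m) ⊕ Fin 1) ((Fin m ⊕ Fin m) ⊕ Fin 1) F)) h
    exact Subtype.ext (Matrix.fromBlocks_inj.mp h').1
  · set H := (h.1 : Matrix ((Fin m ⊕ Fin m) ⊕ Fin 1) ((Fin m ⊕ Fin m) ⊕ Fin 1) F)
    have hh : Hᵀ * oddStd m F * H = oddStd m F := h.2
    have hlast : ∀ x, (H *ᵥ x) (Sum.inr 0) = x (Sum.inr 0) := by
      intro x
      have e := form_eq (oddStd m F) H x x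
      rw [hh, oddStd_form, oddStd_form, Cfsg.Agent.Lib.Geometry.sympForm_self, Cfsg.Agent.Lib.Geometry.sympForm_self,
        zero_add, zero_add] at e
      rcases mul_self_eq_mul_self_iff.mp e with e' | e'
      · exact e'.symm
      · rw [e', CharTwo.neg_eq]
    have h21 : H.toBlocks₂₁ = 0 := by
      ext i j
      have := hlast (Pi.single (Sum.inl j) 1)
      rw [Matrix.mulVec_single_one] at this
      rw [Fin.fin_one_eq_zero i]
      simpa [Matrix.toBlocks₂₁] using this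
    have h22 : H.toBlocks₂₂ = 1 := by
      ext i j
      have := hlast (Pi.single (Sum.inr j) 1)
      rw [Matrix.mulVec_single_one] at this
      rw [Fin.fin_one_eq_zero i, Fin.fin_one_eq_zero j] at *
      simpa [Matrix.toBlocks₂₂] using this
    have hd := hh
    rw [← Matrix.fromBlocks_toBlocks H, h21, h22, oddStd, Matrix.fromBlocks_transpose, Matrix.fromBlocks_multiply,
      Matrix.fromBlocks_multiply, Matrix.fromBlocks_inj] at hd
    obtain ⟨hA, hb, -, -⟩ := hd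
    simp only [Matrix.mul_zero, Matrix.zero_mul, add_zero, Matrix.transpose_zero] at hA hb
    have hAs : H.toBlocks₁₁ ∈ Matrix.symplecticGroup (Fin m) F := SymplecticGroup.mem_iff'.mpr hA
    have h12 : H.toBlocks₁₂ = 0 := by
      have hinv : IsUnit ((H.toBlocks₁₁)ᵀ * Matrix.J (Fin m) F) :=
        (Matrix.isUnit_iff_isUnit_det _).mpr (by
          rw [det_mul, det_transpose, SymplecticGroup.det_eq_one hAs, one_mul]
          exact Matrix.isUnit_det_J (Fin m) F)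
      obtain ⟨U, hU⟩ := hinv
      have := congrArg (fun X => ((U⁻¹ : (Matrix (Fin m ⊕ Fin m) (Fin m ⊕ Fin m) F)ˣ) : Matrix (Fin m ⊕ Fin m) (Fin m ⊕ Fin m) F) * X) hb
      rw [← hU, ← Matrix.mul_assoc, Units.inv_mul, Matrix.one_mul, Matrix.mul_zero] at this
      exact this
    refine ⟨⟨_, hAs⟩, Subtype.ext (Units.ext ?_)⟩
    show Matrix.fromBlocks H.toBlocks₁₁ 0 0 1 = H
    conv_rhs => rw [← Matrix.fromBlocks_toBlocks H, h12, h21, h22]

theorem s2699_even {n m : ℕ} (hn : 3 ≤ n) (hnm : n = 2 * m + 1)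
    {γ γ' : MulAut (Matrix.ProjectiveSpecialLinearGroup (Fin n) F)} (hγ : Cfsg.IsGraphAutClassPSL γ)
    (hγ2 : orderOf γ = 2) (hγ' : Cfsg.IsGraphAutClassPSL γ') (hγ'2 : orderOf γ' = 2) :
    Nonempty (↥(Cfsg.inndiagPSL n F ⊓ Subgroup.centralizer {γ}) ≃* Cfsg.PGO F (Cfsg.quadFormOdd m F)) ∧
      Cfsg.IsConjUnder (Cfsg.inndiagPSL n F) γ γ' := by
  classical
  haveI : Fact (Nat.Prime 2) := ⟨Nat.prime_two⟩
  let e : (Fin m ⊕ Fin m) ⊕ Fin 1 ≃ Fin n := Fintype.equivFinOfCardEq (by simp; omega)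
  set O := stdGL e _ (oddStd_det (F := F) m) with hOdef
  obtain ⟨M, rfl, hM⟩ := exists_gam 2 hγ hγ2
  obtain ⟨M', rfl, hM'⟩ := exists_gam 2 hγ' hγ'2
  have hc : ∀ {M : GL (Fin n) F}, (M : Matrix (Fin n) (Fin n) F)ᵀ = (M : Matrix (Fin n) (Fin n) F) →
      Cong (M : Matrix (Fin n) (Fin n) F) (((1 : Fˣ) : F) • (O : Matrix (Fin n) (Fin n) F)) := fun {M} h => by
    rw [show ((1 : Fˣ) : F) • (O : Matrix (Fin n) (Fin n) F) = (O : Matrix (Fin n) (Fin n) F) by simp]
    exact classify_odd hnm h (GeneralLinearGroup.det M).ne_zero e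
  obtain ⟨h1, ⟨a⟩⟩ := centralizer_conj 2 (by omega) 1 (hc (symm_of_pm hM))
  obtain ⟨⟨x, hx, ex⟩, -⟩ := centralizer_conj 2 (by omega) 1 (hc (symm_of_pm hM'))
  obtain ⟨b⟩ := centralizer_std 2 (show 2 ≤ n by omega) e _ (oddStd_det (F := F) m) _ rfl
  obtain ⟨c⟩ := projSim_iso (oddStd m F) fun h => by
    haveI : Nonempty ((Fin m ⊕ Fin m) ⊕ Fin 1) := ⟨Sum.inr 0⟩
    exact oddStd_det (F := F) m (by rw [h, Matrix.det_zero])
  obtain ⟨d⟩ := iso_oddStd (F := F) m
  obtain ⟨g⟩ := Cfsg.Agent.Lib.Classical.nonempty_orthOdd_mulEquiv_sp (F := F) (m := m)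
  obtain ⟨k⟩ := projQuad_iso (Cfsg.quadFormOdd m F)
    (fun c v => by rw [quadFormOdd_eq]; exact QuadraticMap.map_smul _ c v)
    ⟨Sum.elim (fun _ => 1) 0, by simp [Cfsg.quadFormOdd]⟩
  refine ⟨⟨(a.trans b).trans (c.trans (d.symm.trans (g.symm.trans k.symm)))⟩, ?_⟩
  obtain ⟨y, hy, ey⟩ := h1
  exact ⟨x⁻¹ * y, mul_mem (inv_mem hx) hy, by rw [_root_.mul_inv_rev, inv_inv,
    show x⁻¹ * y * gam M * (y⁻¹ * x) = x⁻¹ * (y * gam M * y⁻¹) * x by group, ← ey, ex]; group⟩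

omit [Fintype F] in
theorem evenStd_iso_mem {m : ℕ} (t : Fin m ⊕ Fin m → F) (h : GL (Fin m ⊕ Fin m) F) :
    h ∈ isoGroup (evenStd m t) ↔ (h : Matrix _ _ F) ∈ Matrix.symplecticGroup (Fin m) F ∧
      (h : Matrix (Fin m ⊕ Fin m) (Fin m ⊕ Fin m) F)ᵀ *ᵥ t = t := by
  set H := (h : Matrix (Fin m ⊕ Fin m) (Fin m ⊕ Fin m) F)
  have hexp : Hᵀ * evenStd m t * H = Hᵀ * Matrix.J (Fin m) F * H + vecMulVec (Hᵀ *ᵥ t) (Hᵀ *ᵥ t) := by
    rw [evenStd, Matrix.mul_add, Matrix.add_mul, mul_vecMulVec, vecMulVec_mul, Matrix.mulVec_transpose]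
  constructor
  · intro hh
    have hh' : Hᵀ * evenStd m t * H = evenStd m t := hh
    have ht : Hᵀ *ᵥ t = t := by
      funext i
      have e := form_eq (evenStd m t) H (Pi.single i 1) (Pi.single i 1)
      rw [hh', evenStd, add_mulVec, dotProduct_add, ← sympForm_eq, Cfsg.Agent.Lib.Geometry.sympForm_self, rankOne,
        zero_add, add_mulVec, dotProduct_add, ← sympForm_eq, Cfsg.Agent.Lib.Geometry.sympForm_self, rankOne,
        zero_add, dotProduct_single_one] at e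
      have e2 : t ⬝ᵥ (H *ᵥ Pi.single i 1) = (Hᵀ *ᵥ t) i := by
        rw [dotProduct_mulVec, dotProduct_single_one, Matrix.mulVec_transpose]
      rw [e2] at e
      rcases mul_self_eq_mul_self_iff.mp e with e' | e'
      · exact e'.symm
      · rw [e', CharTwo.neg_eq]
    refine ⟨SymplecticGroup.mem_iff'.mpr ?_, ht⟩
    rw [hexp, ht, evenStd] at hh'
    exact add_right_cancel hh'
  · rintro ⟨hs, ht⟩
    show Hᵀ * evenStd m t * H = evenStd m t
    rw [hexp, ht, SymplecticGroup.mem_iff'.mp hs, evenStd]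

theorem evenStd_det {m : ℕ} (t : Fin m ⊕ Fin m → F) : (evenStd m t).det ≠ 0 := by
  intro h
  obtain ⟨v, hv, hv0⟩ := Matrix.exists_mulVec_eq_zero_iff.mpr h
  rw [evenStd, add_mulVec, vecMulVec_mulVec, op_smul_eq_smul] at hv0
  have e := congrArg (fun w => v ⬝ᵥ w) hv0
  rw [dotProduct_zero, dotProduct_add, ← sympForm_eq, Cfsg.Agent.Lib.Geometry.sympForm_self, zero_add, dotProduct_smul,
    smul_eq_mul, dotProduct_comm v t] at e
  rw [mul_self_eq_zero.mp e, zero_smul, add_zero] at hv0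
  exact hv (gl_injective (Matrix.isUnit_det_J (Fin m) F).ne_zero v hv0)

theorem s2701 {n m : ℕ} (hm : 2 ≤ m) (hnm : n = 2 * m) :
    ∃ (γ₁ γ₃ : MulAut (Matrix.ProjectiveSpecialLinearGroup (Fin n) F)) (t : ↥(Matrix.symplecticGroup (Fin m) F)),
      Cfsg.IsTransvection (t : Matrix (Fin m ⊕ Fin m) (Fin m ⊕ Fin m) F) ∧ Cfsg.IsGraphAutClassPSL γ₁ ∧
      orderOf γ₁ = 2 ∧ Cfsg.IsGraphAutClassPSL γ₃ ∧ orderOf γ₃ = 2 ∧
      ¬ Cfsg.IsConjUnder (Cfsg.inndiagPSL n F) γ₁ γ₃ ∧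
      (∀ γ : MulAut (Matrix.ProjectiveSpecialLinearGroup (Fin n) F), Cfsg.IsGraphAutClassPSL γ → orderOf γ = 2 →
        Cfsg.IsConjUnder (Cfsg.inndiagPSL n F) γ₁ γ ∨ Cfsg.IsConjUnder (Cfsg.inndiagPSL n F) γ₃ γ) ∧
      Nonempty (↥(Cfsg.inndiagPSL n F ⊓ Subgroup.centralizer {γ₁}) ≃* ↥(Matrix.symplecticGroup (Fin m) F)) ∧
      Nonempty (↥(Cfsg.inndiagPSL n F ⊓ Subgroup.centralizer {γ₃}) ≃*
        ↥(Subgroup.centralizer ({t} : Set ↥(Matrix.symplecticGroup (Fin m) F)))) := by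
  classical
  haveI : Fact (Nat.Prime 2) := ⟨Nat.prime_two⟩
  have hn3 : 3 ≤ n := by omega
  have hn : 2 ≤ n := by omega
  let e : Fin m ⊕ Fin m ≃ Fin n := Fintype.equivFinOfCardEq (by simp; omega)
  let i0 : Fin m ⊕ Fin m := Sum.inl ⟨0, by omega⟩
  let t0 : Fin m ⊕ Fin m → F := Pi.single i0 1
  have ht0 : t0 ≠ 0 := fun h => one_ne_zero (α := F) (by simpa [t0] using congrFun h i0)
  set A := stdGL e (Matrix.J (Fin m) F) (Matrix.isUnit_det_J (Fin m) F).ne_zero
  set B := stdGL e (evenStd m t0) (evenStd_det t0)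
  have hA : (A : Matrix (Fin n) (Fin n) F)ᵀ = (A : Matrix (Fin n) (Fin n) F) := by
    rw [stdGL_coe, Matrix.transpose_reindex, J_alt]
  have hB : (B : Matrix (Fin n) (Fin n) F)ᵀ = (B : Matrix (Fin n) (Fin n) F) := by
    rw [stdGL_coe, Matrix.transpose_reindex, evenStd, transpose_add, J_alt, transpose_vecMulVec]
  -- the transvection
  set u := Matrix.J (Fin m) F *ᵥ t0 with hu
  have hu0 : u ≠ 0 := fun h => ht0 (gl_injective (Matrix.isUnit_det_J (Fin m) F).ne_zero t0 h)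
  set t := spT u (1 : F) with ht
  have hsub : (t : Matrix (Fin m ⊕ Fin m) (Fin m ⊕ Fin m) F) - 1 = vecMulVec u (Matrix.J (Fin m) F *ᵥ u) := by
    show Cfsg.sympTransvection m u 1 - 1 = _
    rw [Cfsg.sympTransvection, one_smul, add_sub_cancel_left]
  have htr : Cfsg.IsTransvection (t : Matrix (Fin m ⊕ Fin m) (Fin m ⊕ Fin m) F) := by
    refine ⟨?_, ?_⟩
    · rw [hsub]
      refine le_antisymm (Matrix.rank_vecMulVec_le _ _) (Nat.one_le_iff_ne_zero.mpr fun h => ?_)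
      rw [Matrix.rank, Submodule.finrank_eq_zero, LinearMap.range_eq_bot] at h
      obtain ⟨x, hx⟩ := exists_sympForm_eq_one hu0
      have := LinearMap.congr_fun h x
      rw [Matrix.mulVecLin_apply, vecMulVec_mulVec, op_smul_eq_smul, dotProduct_comm, ← sympForm_eq,
        Cfsg.Agent.Lib.Geometry.sympForm_swap, hx, LinearMap.zero_apply, CharTwo.neg_eq, one_smul] at this
      exact hu0 this
    · rw [hsub, vecMulVec_mul_vecMulVec, dotProduct_comm, ← sympForm_eq, Cfsg.Agent.Lib.Geometry.sympForm_self, zero_smul,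
        Matrix.vecMulVec_zero]
  refine ⟨gam A, gam B, t, htr, isGraph_gam hn3 _, orderOf_gam 2 hn3 (Or.inl hA), isGraph_gam hn3 _,
    orderOf_gam 2 hn3 (Or.inl hB), fun h => ?_, fun γ hγ h2 => ?_, ?_, ?_⟩
  · obtain ⟨g, c, eq⟩ := (conjUnder_iff 2 hn _ _).mp h
    have hbi : (B : Matrix (Fin n) (Fin n) F) (e i0) (e i0) = 1 := by
      rw [stdGL_coe, evenStd]
      simp [t0, i0, Matrix.J, vecMulVec_apply]
    have hw : ∀ x : Fin n → F, x ⬝ᵥ ((A : Matrix (Fin n) (Fin n) F) *ᵥ x) = 0 := fun x => by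
      rw [stdGL_coe, Matrix.reindex_apply, Matrix.submatrix_mulVec_equiv, Equiv.symm_symm,
        dotProduct_comp_equiv_symm, ← sympForm_eq]
      exact Cfsg.Agent.Lib.Geometry.sympForm_self _
    have e1 : (B : Matrix (Fin n) (Fin n) F) (e i0) (e i0) =
        Pi.single (e i0) 1 ⬝ᵥ ((B : Matrix (Fin n) (Fin n) F) *ᵥ Pi.single (e i0) 1) := by simp
    rw [eq, smul_mulVec, dotProduct_smul, form_eq, hw, smul_zero, ← eq, hbi] at e1
    exact one_ne_zero e1
  · obtain ⟨M, rfl, hM⟩ := exists_gam 2 hγ h2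
    rcases classify_even hnm (by omega : 1 ≤ m) (symm_of_pm hM) (GeneralLinearGroup.det M).ne_zero e with h | h
    · obtain ⟨g, hg⟩ := h.symm
      exact Or.inl ((conjUnder_iff 2 hn _ _).mpr ⟨g, 1, by rw [stdGL_coe, hg, Units.val_one, one_smul]⟩)
    · obtain ⟨g, hg⟩ := (h t0 ht0).symm
      exact Or.inr ((conjUnder_iff 2 hn _ _).mpr ⟨g, 1, by rw [stdGL_coe, hg, Units.val_one, one_smul]⟩)
  · obtain ⟨a⟩ := centralizer_std 2 hn e _ (Matrix.isUnit_det_J (Fin m) F).ne_zero _ rfl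
    haveI : Nonempty (Fin m ⊕ Fin m) := ⟨i0⟩
    obtain ⟨b⟩ := projSim_iso (Matrix.J (Fin m) F) fun h => (Matrix.isUnit_det_J (Fin m) F).ne_zero (by
      rw [h, Matrix.det_zero])
    refine ⟨(a.trans b).trans ((Cfsg.Agent.Lib.Classical.spEquivGL m F).trans (MulEquiv.subgroupCongr ?_)).symm⟩
    ext g
    constructor
    · intro hg
      exact SymplecticGroup.mem_iff'.mp (Cfsg.Agent.Lib.Geometry.mem_symplecticGroup_iff_form.mpr hg)
    · intro hg
      exact Cfsg.Agent.Lib.Geometry.mem_symplecticGroup_iff_form.mp (SymplecticGroup.mem_iff'.mpr hg)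
  · obtain ⟨a⟩ := centralizer_std 2 hn e _ (evenStd_det t0) _ rfl
    haveI : Nonempty (Fin m ⊕ Fin m) := ⟨i0⟩
    obtain ⟨b⟩ := projSim_iso (evenStd m t0) fun h => evenStd_det t0 (by rw [h, Matrix.det_zero])
    have hmem : ∀ g : Matrix.symplecticGroup (Fin m) F,
        g ∈ Subgroup.centralizer ({t} : Set _) ↔ g.1ᵀ *ᵥ t0 = t0 := by
      intro g
      rw [Subgroup.mem_centralizer_singleton_iff]
      have h1 : g * t = t * g ↔ g.1 *ᵥ u = u := by
        constructor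
        · intro h
          have hc : spT (g.1 *ᵥ u) (1 : F) = t := by rw [← spT_conj, ← ht, h, mul_inv_cancel_right]
          obtain ⟨x, hx⟩ := exists_sympForm_eq_one hu0
          have hx' : Cfsg.sympForm m F x u = 1 := by
            rw [Cfsg.Agent.Lib.Geometry.sympForm_swap, hx, CharTwo.neg_eq]
          have h2 := congrArg (fun y : Matrix.symplecticGroup (Fin m) F => y.1 *ᵥ x) hc
          simp only [ht, spT_mulVec, one_mul, add_right_inj, hx', one_smul] at h2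
          set a := Cfsg.sympForm m F x (g.1 *ᵥ u) with ha
          have ha2 : a * a = 1 := by
            have h3 := congrArg (Cfsg.sympForm m F x) h2
            rw [Cfsg.Agent.Lib.Classical.sympForm_smul_right, hx', ← ha] at h3
            exact h3
          rw [sq_one ha2, one_smul] at h2
          exact h2
        · intro h
          rw [← mul_inv_eq_iff_eq_mul, ht, spT_conj, h]
      rw [h1]
      have hJ : g.1ᵀ * Matrix.J (Fin m) F * g.1 = Matrix.J (Fin m) F := SymplecticGroup.mem_iff'.mp g.2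
      have hJJ : Matrix.J (Fin m) F *ᵥ u = t0 := by
        rw [hu, Matrix.mulVec_mulVec, Matrix.J_squared]
        ext i; simp [CharTwo.neg_eq]
      constructor
      · intro h
        have := congrArg (fun X => X *ᵥ u) hJ
        simp only [← Matrix.mulVec_mulVec, h, hJJ] at this
        exact this
      · intro h
        have := congrArg (fun X => X *ᵥ u) hJ
        simp only [← Matrix.mulVec_mulVec, hJJ] at this
        refine sub_eq_zero.mp (gl_injective (M := g.1ᵀ * Matrix.J (Fin m) F) ?_ _ ?_)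
        · rw [det_mul, det_transpose, SymplecticGroup.det_eq_one g.2, one_mul]
          exact (Matrix.isUnit_det_J (Fin m) F).ne_zero
        · rw [mulVec_sub, ← Matrix.mulVec_mulVec, ← Matrix.mulVec_mulVec, hJJ, this, h, sub_self]
    let ψ : ↥(Subgroup.centralizer ({t} : Set ↥(Matrix.symplecticGroup (Fin m) F))) →* isoGroup (evenStd m t0) :=
      ((spToGL m F).comp (Subgroup.subtype _)).codRestrict _ fun g =>
        (evenStd_iso_mem t0 _).mpr ⟨g.1.2, (hmem g.1).mp g.2⟩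
    refine ⟨(a.trans b).trans (MulEquiv.ofBijective ψ ⟨fun x y h => ?_, fun g => ?_⟩).symm⟩
    · exact Subtype.ext (Cfsg.Agent.Lib.Classical.spToGL_injective (congrArg Subtype.val h))
    · obtain ⟨hs, hf⟩ := (evenStd_iso_mem t0 g.1).mp g.2
      exact ⟨⟨⟨_, hs⟩, (hmem ⟨_, hs⟩).mpr hf⟩, Subtype.ext (Units.ext rfl)⟩

end Cfsg.Agent.Lib.Geometry.GraphAut
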