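import Cfsg.Prelude.Def_LieTypeDatum
import Cfsg.Agent.Lib.Classical.SympGroup

/-!
Similitude groups of a matrix and their projective quotients.
-/

set_option autoImplicit false

namespace Cfsg.Agent.Lib.Geometry.GraphAut

open Matrix

section Sim

variable {ι κ : Type} [Fintype ι] [DecidableEq ι] [Fintype κ] [DecidableEq κ] {F : Type*} [Field F]

/-- The similitudes of a matrix. -/
def simGroup (M : Matrix ι ι F) : Subgroup (GL ι F) where
  carrier := {h | ∃ c : Fˣ, (h : Matrix ι ι F)ᵀ * M * (h : Matrix ι ι F) = (c : F) • M}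
  mul_mem' := by
    rintro a b ⟨c, hc⟩ ⟨d, hd⟩
    refine ⟨c * d, ?_⟩
    rw [Units.val_mul, Units.val_mul, transpose_mul,
      show (b : Matrix ι ι F)ᵀ * (a : Matrix ι ι F)ᵀ * M * ((a : Matrix ι ι F) * (b : Matrix ι ι F)) =
        (b : Matrix ι ι F)ᵀ * ((a : Matrix ι ι F)ᵀ * M * (a : Matrix ι ι F)) * (b : Matrix ι ι F) by
        simp only [mul_assoc], hc, mul_smul_comm, smul_mul_assoc, hd, smul_smul]
  one_mem' := ⟨1, by simp⟩
  inv_mem' := by
    rintro a ⟨c, hc⟩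
    refine ⟨c⁻¹, ?_⟩
    have h := congrArg (fun X => ((a⁻¹ : GL ι F) : Matrix ι ι F)ᵀ * X * ((a⁻¹ : GL ι F) : Matrix ι ι F)) hc
    simp only [mul_smul_comm, smul_mul_assoc] at h
    rw [show ((a⁻¹ : GL ι F) : Matrix ι ι F)ᵀ * ((a : Matrix ι ι F)ᵀ * M * (a : Matrix ι ι F)) *
        ((a⁻¹ : GL ι F) : Matrix ι ι F) = ((a : Matrix ι ι F) * ((a⁻¹ : GL ι F) : Matrix ι ι F))ᵀ * M *
          ((a : Matrix ι ι F) * ((a⁻¹ : GL ι F) : Matrix ι ι F)) by simp only [transpose_mul, mul_assoc],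
      ← Units.val_mul, mul_inv_cancel, Units.val_one, transpose_one, one_mul, mul_one] at h
    rw [Units.val_inv_eq_inv_val, eq_inv_smul_iff₀ c.ne_zero]
    exact h.symm

/-- The isometries of a matrix. -/
def isoGroup (M : Matrix ι ι F) : Subgroup (GL ι F) where
  carrier := {h | (h : Matrix ι ι F)ᵀ * M * (h : Matrix ι ι F) = M}
  mul_mem' := by
    intro a b hc hd
    simp only [Set.mem_setOf_eq] at hc hd ⊢
    rw [Units.val_mul, transpose_mul,
      show (b : Matrix ι ι F)ᵀ * (a : Matrix ι ι F)ᵀ * M * ((a : Matrix ι ι F) * (b : Matrix ι ι F)) =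
        (b : Matrix ι ι F)ᵀ * ((a : Matrix ι ι F)ᵀ * M * (a : Matrix ι ι F)) * (b : Matrix ι ι F) by
        simp only [mul_assoc], hc, hd]
  one_mem' := by simp
  inv_mem' := by
    intro a hc
    simp only [Set.mem_setOf_eq] at hc ⊢
    conv_lhs => rw [← hc]
    rw [show ((a⁻¹ : GL ι F) : Matrix ι ι F)ᵀ * ((a : Matrix ι ι F)ᵀ * M * (a : Matrix ι ι F)) *
        ((a⁻¹ : GL ι F) : Matrix ι ι F) = ((a : Matrix ι ι F) * ((a⁻¹ : GL ι F) : Matrix ι ι F))ᵀ * M *
          ((a : Matrix ι ι F) * ((a⁻¹ : GL ι F) : Matrix ι ι F)) by simp only [transpose_mul, mul_assoc],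
      ← Units.val_mul, mul_inv_cancel, Units.val_one, transpose_one, one_mul, mul_one]

theorem iso_le_sim (M : Matrix ι ι F) : isoGroup M ≤ simGroup M :=
  fun h hh => ⟨1, by rw [Units.val_one, one_smul]; exact hh⟩

theorem scalars_le_sim (M : Matrix ι ι F) : Cfsg.Geo.scalars ι F ≤ simGroup M := by
  intro g hg
  obtain ⟨c, hc⟩ := (Cfsg.Geo.mem_scalars_iff g).mp hg
  exact ⟨c * c, by rw [hc, transpose_smul, transpose_one, Units.val_mul]; simp [smul_smul]⟩

theorem scalars_eq_center : Cfsg.Geo.scalars ι F = Subgroup.center (GL ι F) := by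
  rw [GeneralLinearGroup.center_eq_range_scalar]; rfl

instance normal_scalars (H : Subgroup (GL ι F)) : ((Cfsg.Geo.scalars ι F).subgroupOf H).Normal := by
  rw [scalars_eq_center]
  infer_instance

/-- The matrix change of index. -/
def reGL (e : ι ≃ κ) : GL ι F ≃* GL κ F := Units.mapEquiv (Matrix.reindexAlgEquiv F F e).toMulEquiv

theorem reGL_coe (e : ι ≃ κ) (g : GL ι F) : (reGL e g : Matrix κ κ F) = Matrix.reindex e e (g : Matrix ι ι F) := rfl

theorem reGL_scalars (e : ι ≃ κ) :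
    (Cfsg.Geo.scalars ι F).map (reGL e).toMonoidHom = Cfsg.Geo.scalars κ F := by
  rw [scalars_eq_center, scalars_eq_center]
  refine le_antisymm ?_ ?_
  · rintro _ ⟨g, hg, rfl⟩
    rw [Subgroup.mem_center_iff]
    intro y
    obtain ⟨x, rfl⟩ := (reGL e).surjective y
    show reGL e x * reGL e g = reGL e g * reGL e x
    rw [← map_mul, ← map_mul, Subgroup.mem_center_iff.mp hg x]
  · intro y hy
    obtain ⟨x, rfl⟩ := (reGL e).surjective y
    refine ⟨x, ?_, rfl⟩
    rw [SetLike.mem_coe, Subgroup.mem_center_iff]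
    intro z
    exact (reGL e).injective (by rw [map_mul, map_mul]; exact Subgroup.mem_center_iff.mp hy _)

theorem projQuot_map (H : Subgroup (GL ι F)) (K : Subgroup (GL κ F)) (φ : GL ι F ≃* GL κ F)
    (hφ : (Cfsg.Geo.scalars ι F).map φ.toMonoidHom = Cfsg.Geo.scalars κ F) (h : H.map φ.toMonoidHom = K) :
    Nonempty (Cfsg.projQuot H ≃* Cfsg.projQuot K) := by
  subst h
  refine ⟨QuotientGroup.congr _ _ (φ.subgroupMap H) ?_⟩
  rw [← hφ]
  ext ⟨y, hy⟩
  constructor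
  · rintro ⟨⟨x, hx⟩, hxs, e⟩
    rw [← e, Subgroup.mem_subgroupOf]
    exact ⟨x, hxs, rfl⟩
  · intro hs
    obtain ⟨x, hx, e⟩ := hy
    obtain ⟨x', hx', e'⟩ := hs
    obtain rfl : x' = x := φ.injective (e'.trans e.symm)
    exact ⟨⟨x', hx⟩, hx', Subtype.ext e'⟩

theorem reGL_sim (e : ι ≃ κ) (M : Matrix ι ι F) :
    (simGroup M).map (reGL e).toMonoidHom = simGroup (Matrix.reindex e e M) := by
  ext y
  obtain ⟨x, rfl⟩ := (reGL e).surjective y
  rw [show reGL e x = (reGL e).toMonoidHom x from rfl,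
    Subgroup.mem_map_iff_mem (f := (reGL e).toMonoidHom) (reGL e).injective]
  show (∃ c : Fˣ, _) ↔ ∃ c : Fˣ, _
  refine exists_congr fun c => ?_
  rw [MulEquiv.coe_toMonoidHom, reGL_coe, Matrix.transpose_reindex]
  simp only [Matrix.reindex_apply, Matrix.submatrix_mul_equiv]
  exact ((Matrix.reindex e e).injective.eq_iff (a := (x : Matrix ι ι F)ᵀ * M * (x : Matrix ι ι F)) (b := (c : F) • M)).symm

theorem projQuot_sim_reindex (e : ι ≃ κ) (M : Matrix ι ι F) :
    Nonempty (Cfsg.projQuot (simGroup M) ≃* Cfsg.projQuot (simGroup (Matrix.reindex e e M))) :=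
  projQuot_map _ _ (reGL e) (reGL_scalars e) (reGL_sim e M)

theorem sim_smul (M : Matrix ι ι F) {c : F} (hc : c ≠ 0) : simGroup (c • M) = simGroup M := by
  ext h
  show (∃ d : Fˣ, _) ↔ ∃ d : Fˣ, _
  refine exists_congr fun d => ?_
  rw [mul_smul_comm, smul_mul_assoc, smul_comm (d : F) c, smul_right_inj hc]

theorem projQuot_sim_cong (M : Matrix ι ι F) (P : GL ι F) :
    Nonempty (Cfsg.projQuot (simGroup ((P : Matrix ι ι F)ᵀ * M * (P : Matrix ι ι F))) ≃*
      Cfsg.projQuot (simGroup M)) := by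
  refine projQuot_map _ _ (MulAut.conj P) ?_ ?_
  · rw [scalars_eq_center]
    ext x
    constructor
    · rintro ⟨y, hy, rfl⟩
      show P * y * P⁻¹ ∈ _
      rwa [Subgroup.mem_center_iff.mp hy P, mul_inv_cancel_right]
    · intro hx
      exact ⟨x, hx, show P * x * P⁻¹ = x by rw [Subgroup.mem_center_iff.mp hx P, mul_inv_cancel_right]⟩
  ext x
  constructor
  · rintro ⟨y, ⟨c, hc⟩, rfl⟩
    refine ⟨c, ?_⟩
    show ((P * y * P⁻¹ : GL ι F) : Matrix ι ι F)ᵀ * M * ((P * y * P⁻¹ : GL ι F) : Matrix ι ι F) = _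
    have h := congrArg (fun X => ((P⁻¹ : GL ι F) : Matrix ι ι F)ᵀ * X * ((P⁻¹ : GL ι F) : Matrix ι ι F)) hc
    simp only [mul_smul_comm, smul_mul_assoc] at h
    rw [show ((P⁻¹ : GL ι F) : Matrix ι ι F)ᵀ * ((P : Matrix ι ι F)ᵀ * M * (P : Matrix ι ι F)) *
        ((P⁻¹ : GL ι F) : Matrix ι ι F) = ((P : Matrix ι ι F) * ((P⁻¹ : GL ι F) : Matrix ι ι F))ᵀ * M *
          ((P : Matrix ι ι F) * ((P⁻¹ : GL ι F) : Matrix ι ι F)) by simp only [transpose_mul, mul_assoc],
      ← Units.val_mul, mul_inv_cancel, Units.val_one, transpose_one, one_mul, mul_one] at h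
    rw [← h]
    simp only [Units.val_mul, transpose_mul, mul_assoc]
  · rintro ⟨c, hc⟩
    refine ⟨P⁻¹ * x * P, ⟨c, ?_⟩, by show P * (P⁻¹ * x * P) * P⁻¹ = x; group⟩
    calc _ = (P : Matrix ι ι F)ᵀ * ((x : Matrix ι ι F)ᵀ *
          ((((P : Matrix ι ι F) * ((P⁻¹ : GL ι F) : Matrix ι ι F)))ᵀ * M *
            ((P : Matrix ι ι F) * ((P⁻¹ : GL ι F) : Matrix ι ι F))) * (x : Matrix ι ι F)) * (P : Matrix ι ι F) := by
          simp only [Units.val_mul, transpose_mul, mul_assoc]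
      _ = _ := by
          rw [← Units.val_mul, mul_inv_cancel, Units.val_one, transpose_one, one_mul, mul_one, hc, mul_smul_comm,
            smul_mul_assoc]

/-- When every multiplier is a square, the projective similitude group is the projective isometry group. -/
theorem projQuot_sim_iso (M : Matrix ι ι F) (h : ∀ g ∈ simGroup M, ∃ z ∈ Cfsg.Geo.scalars ι F, z * g ∈ isoGroup M) :
    Nonempty (Cfsg.projQuot (isoGroup M) ≃* Cfsg.projQuot (simGroup M)) := by
  let ψ : isoGroup M →* Cfsg.projQuot (simGroup M) :=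
    (QuotientGroup.mk' _).comp (Subgroup.inclusion (iso_le_sim M))
  have hsur : Function.Surjective ψ := by
    intro y
    induction y using QuotientGroup.induction_on with | _ g => ?_
    obtain ⟨z, hz, hzg⟩ := h g.1 g.2
    refine ⟨⟨z * g.1, hzg⟩, ?_⟩
    refine QuotientGroup.eq.mpr ?_
    rw [Subgroup.mem_subgroupOf]
    show (z * g.1)⁻¹ * g.1 ∈ _
    rw [_root_.mul_inv_rev, mul_assoc]
    rw [scalars_eq_center] at hz ⊢
    rw [← (Subgroup.mem_center_iff.mp (inv_mem hz) g.1), inv_mul_cancel_left]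
    exact inv_mem hz
  have hker : ψ.ker = (Cfsg.Geo.scalars ι F).subgroupOf (isoGroup M) := by
    ext g
    rw [MonoidHom.mem_ker, Subgroup.mem_subgroupOf]
    exact (QuotientGroup.eq_one_iff _)
  exact ⟨(QuotientGroup.quotientMulEquivOfEq hker.symm).trans (QuotientGroup.quotientKerEquivOfSurjective ψ hsur)⟩

theorem gl_injective {M : Matrix ι ι F} : M.det ≠ 0 → ∀ u, M *ᵥ u = 0 → u = 0 := fun h u hu =>
  by_contra fun hne => h (Matrix.exists_mulVec_eq_zero_iff.mp ⟨u, hne, hu⟩)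

theorem form_eq (M : Matrix ι ι F) (h : Matrix ι ι F) (u v : ι → F) :
    u ⬝ᵥ ((hᵀ * M * h) *ᵥ v) = (h *ᵥ u) ⬝ᵥ (M *ᵥ (h *ᵥ v)) := by
  rw [mul_assoc, ← Matrix.mulVec_mulVec, Matrix.dotProduct_mulVec, Matrix.vecMul_transpose, ← Matrix.mulVec_mulVec]

theorem ext_form {M N : Matrix ι ι F} (h : ∀ u v, u ⬝ᵥ (M *ᵥ v) = u ⬝ᵥ (N *ᵥ v)) : M = N := by
  ext i j
  simpa [Matrix.mulVec_single_one, single_one_dotProduct] using h (Pi.single i 1) (Pi.single j 1)

theorem sympForm_eq (m : ℕ) (u v : Fin m ⊕ Fin m → F) :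
    Cfsg.sympForm m F u v = u ⬝ᵥ (Matrix.J (Fin m) F *ᵥ v) := rfl

theorem GSp_eq (m : ℕ) : Cfsg.GSp m F = simGroup (Matrix.J (Fin m) F) := by
  ext g
  show (∃ c : Fˣ, _) ↔ ∃ c : Fˣ, _
  refine exists_congr fun c => ⟨fun h => ext_form fun u v => ?_, fun h u v => ?_⟩
  · rw [form_eq, smul_mulVec, dotProduct_smul, smul_eq_mul]
    exact h u v
  · rw [sympForm_eq, sympForm_eq, ← form_eq, h, smul_mulVec, dotProduct_smul, smul_eq_mul]

end Sim

end Cfsg.Agent.Lib.Geometry.GraphAut
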