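import Cfsg.Agent.Lib.Geometry.GraphAut.Odd
import Cfsg.Agent.Lib.Classical.OrthCard
import Cfsg.Agent.Lib.Classical.SympCard

/-!
Splitting of the classes of involutory graph automorphisms of `PSL_n(q)`.
-/

set_option autoImplicit false

namespace Cfsg.Agent.Lib.Geometry.GraphAut

open Matrix
open Cfsg.Agent.Lib.Classical.AutPSL

section Card

variable {ι : Type} [Fintype ι] [DecidableEq ι] {F : Type*} [Field F] [Fintype F]

/-- The projective similitude group has as many elements as the isometry group. -/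
theorem card_projSim (M : Matrix ι ι F) (hM : M ≠ 0) [Nonempty ι]
    (hsurj : ∀ c : Fˣ, ∃ h : GL ι F, (h : Matrix ι ι F)ᵀ * M * (h : Matrix ι ι F) = (c : F) • M) :
    Nat.card (Cfsg.projQuot (simGroup M)) = Nat.card (isoGroup M) := by
  classical
  have huniq : ∀ {a b : Fˣ}, (a : F) • M = (b : F) • M → a = b := fun {a b} h =>
    Units.ext (smul_left_injective F hM h)
  choose mult hmult using fun h : simGroup M => h.2
  let μ : simGroup M →* Fˣ := MonoidHom.mk' mult fun a b => huniq (by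
    rw [← hmult, Subgroup.coe_mul, Units.val_mul, transpose_mul,
      show (b.1 : Matrix ι ι F)ᵀ * (a.1 : Matrix ι ι F)ᵀ * M * ((a.1 : Matrix ι ι F) * (b.1 : Matrix ι ι F)) =
        (b.1 : Matrix ι ι F)ᵀ * ((a.1 : Matrix ι ι F)ᵀ * M * (a.1 : Matrix ι ι F)) * (b.1 : Matrix ι ι F) by
        simp only [mul_assoc], hmult, mul_smul_comm, smul_mul_assoc, hmult, smul_smul, Units.val_mul])
  have hμ : ∀ h : simGroup M, (h.1 : Matrix ι ι F)ᵀ * M * (h.1 : Matrix ι ι F) = (μ h : F) • M := hmult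
  have hker : μ.ker = (isoGroup M).subgroupOf (simGroup M) := by
    ext h
    rw [MonoidHom.mem_ker, Subgroup.mem_subgroupOf]
    constructor
    · intro e
      show (h.1 : Matrix ι ι F)ᵀ * M * (h.1 : Matrix ι ι F) = M
      rw [hμ, e, Units.val_one, one_smul]
    · intro e
      exact huniq (by rw [← hμ, Units.val_one, one_smul]; exact e)
  have hs : Function.Surjective μ := fun c => by
    obtain ⟨h, hh⟩ := hsurj c
    exact ⟨⟨h, c, hh⟩, huniq (by rw [← hμ]; exact hh)⟩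
  have h1 := μ.ker.card_mul_index
  rw [Subgroup.index_ker, MonoidHom.range_eq_top.mpr hs, Subgroup.card_top, hker,
    Nat.card_congr (Subgroup.subgroupOfEquivOfLe (iso_le_sim M)).toEquiv] at h1
  have h2 := Subgroup.card_eq_card_quotient_mul_card_subgroup ((Cfsg.Geo.scalars ι F).subgroupOf (simGroup M))
  rw [Nat.card_congr (Subgroup.subgroupOfEquivOfLe (scalars_le_sim M)).toEquiv] at h2
  have h3 : Nat.card (Cfsg.Geo.scalars ι F) = Nat.card Fˣ := by
    refine (Nat.card_congr (MonoidHom.ofInjective ?_).toEquiv).symm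
    intro a b h
    have := congrArg (fun g : GL ι F => (g : Matrix ι ι F) (Classical.arbitrary ι) (Classical.arbitrary ι)) h
    exact Units.ext (by simpa [Matrix.scalar_apply] using this)
  rw [h3] at h2
  exact Nat.eq_of_mul_eq_mul_right Nat.card_pos (h2.symm.trans h1.symm)

omit [Fintype F] in
theorem quadIso_eq (h2 : (2 : F) ≠ 0) (A : Matrix ι ι F) :
    Cfsg.isometryGroup F (⇑(matQuad A)) = isoGroup (A + Aᵀ) := by
  ext g
  constructor
  · intro h
    have hQ : ∀ v, matQuad A ((g : Matrix ι ι F) *ᵥ v) = matQuad A v := fun v => h v v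
    refine ext_form fun u v => ?_
    have hp : ∀ u v, QuadraticMap.polarBilin (matQuad A) u v = u ⬝ᵥ ((A + Aᵀ) *ᵥ v) := fun u v => by
      rw [polarBilin_matQuad, Matrix.toBilin'_apply']
    rw [form_eq, ← hp, ← hp, QuadraticMap.polarBilin_apply_apply, QuadraticMap.polarBilin_apply_apply,
      QuadraticMap.polar, QuadraticMap.polar, ← mulVec_add, hQ, hQ, hQ]
  · intro h v _
    show matQuad A ((g : Matrix ι ι F) *ᵥ v) = matQuad A v
    rw [matQuad_eq_half h2, matQuad_eq_half h2, ← form_eq, show (g : Matrix ι ι F)ᵀ * (A + Aᵀ) * (g : Matrix ι ι F) =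
      A + Aᵀ from h]

theorem scale_symm (h2 : (2 : F) ≠ 0) (M : Matrix ι ι F) (hM : Mᵀ = M) (hd : M.det ≠ 0) {k : ℕ}
    (hk : Fintype.card ι = 2 * k) (c : Fˣ) :
    ∃ h : GL ι F, (h : Matrix ι ι F)ᵀ * M * (h : Matrix ι ι F) = (c : F) • M := by
  refine cong_of_symm h2 hM (by rw [transpose_smul, hM]) hd ?_ ?_
  · rw [det_smul]; exact mul_ne_zero (pow_ne_zero _ c.ne_zero) hd
  · rw [det_smul, hk]; exact ⟨(c : F) ^ k * M.det, by ring⟩

omit [Fintype F] in
theorem scale_J (m : ℕ) (c : Fˣ) : ∃ h : GL (Fin m ⊕ Fin m) F,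
    (h : Matrix (Fin m ⊕ Fin m) (Fin m ⊕ Fin m) F)ᵀ * Matrix.J (Fin m) F * (h : Matrix _ _ F) =
      (c : F) • Matrix.J (Fin m) F ∧ GeneralLinearGroup.det h = c ^ m := by
  refine ⟨GeneralLinearGroup.mkOfDetNeZero (Matrix.fromBlocks ((c : F) • 1) 0 0 1) ?_, ?_, Units.ext ?_⟩
  · rw [Matrix.det_fromBlocks_zero₂₁, det_one, mul_one, det_smul, det_one, mul_one]
    exact pow_ne_zero _ c.ne_zero
  · show (Matrix.fromBlocks ((c : F) • 1) 0 0 (1 : Matrix (Fin m) (Fin m) F))ᵀ * Matrix.J (Fin m) F *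
      Matrix.fromBlocks ((c : F) • 1) 0 0 1 = _
    simp [Matrix.J, Matrix.fromBlocks_transpose, Matrix.fromBlocks_multiply, Matrix.fromBlocks_smul]
  · show (Matrix.fromBlocks ((c : F) • 1) 0 0 (1 : Matrix (Fin m) (Fin m) F)).det = _
    rw [Matrix.det_fromBlocks_zero₂₁, det_one, mul_one, det_smul, det_one, mul_one, Fintype.card_fin,
      Units.val_pow_eq_pow_val]

end Card

section Split

variable {n : ℕ} {F : Type*} [Field F] [Fintype F]

local notation "Mat" => Matrix (Fin n) (Fin n) F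

omit [Fintype F] in
theorem det_sq {M : GL (Fin n) F} {h : GL (Fin n) F} {c : Fˣ}
    (hc : (h : Mat)ᵀ * (M : Mat) * (h : Mat) = (c : F) • (M : Mat)) :
    (h : Mat).det * (h : Mat).det = (c : F) ^ n := by
  have e := congrArg Matrix.det hc
  rw [det_mul, det_mul, det_transpose, det_smul, Fintype.card_fin] at e
  exact mul_right_cancel₀ (GeneralLinearGroup.det M).ne_zero (by
    show _ * (M : Mat).det = _ * (M : Mat).det
    linear_combination e)

theorem split_simple (p : ℕ) [Fact p.Prime] [CharP F p] (hn : 2 ≤ n) (M : GL (Fin n) F)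
    (h : Odd n ∨ (2 : F) = 0) :
    Cfsg.splitClassCount (Cfsg.inndiagPSL n F) (Cfsg.Inn (Matrix.ProjectiveSpecialLinearGroup (Fin n) F)) (gam M) =
      Nat.gcd n (Fintype.card F - 1) := by
  rw [split_gam p hn M ⊥ ?_, Subgroup.card_bot, Nat.div_one]
  rw [bot_sup_eq, sup_eq_right]
  rintro _ ⟨g, ⟨c, hc⟩, rfl⟩
  have e := det_sq hc
  rcases h with ⟨m, hm⟩ | h2
  · refine ⟨GeneralLinearGroup.det g * (c ^ m)⁻¹, ?_⟩
    have e' : GeneralLinearGroup.det g * GeneralLinearGroup.det g = c ^ (2 * m + 1) := Units.ext (by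
      rw [Units.val_mul, Units.val_pow_eq_pow_val]; exact e.trans (by congr 1))
    set d := GeneralLinearGroup.det g
    show (d * (c ^ m)⁻¹) ^ n = d
    have hz : (d * (c ^ m)⁻¹) ^ 2 = c := by
      rw [mul_pow, pow_two d, e', inv_pow, ← pow_mul, pow_succ, mul_comm 2 m, mul_assoc, mul_comm c, ← mul_assoc,
        mul_inv_cancel, one_mul]
    rw [show (d * (c ^ m)⁻¹) ^ n = ((d * (c ^ m)⁻¹) ^ 2) ^ m * (d * (c ^ m)⁻¹) by
      rw [← pow_mul, ← pow_succ, ← hm], hz, mul_comm d, mul_inv_cancel_left]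
  · haveI : CharP F 2 := CharTwo.of_one_ne_zero_of_two_eq_zero one_ne_zero h2
    obtain ⟨z, hz⟩ := FiniteField.isSquare_of_char_two (ringChar.eq F 2) (c : F)
    have hz0 : z ≠ 0 := fun h => c.ne_zero (by rw [hz, h, mul_zero])
    refine ⟨Units.mk0 z hz0, Units.ext ?_⟩
    show (((Units.mk0 z hz0) ^ n : Fˣ) : F) = (g : Mat).det
    rw [Units.val_pow_eq_pow_val, Units.val_mk0]
    rw [hz, mul_pow] at e
    rcases mul_self_eq_mul_self_iff.mp e with e' | e'
    · exact e'.symm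
    · rw [e', CharTwo.neg_eq]

theorem gcd_half {m q : ℕ} (hq : q % 2 = 1) :
    Nat.gcd (2 * m) (Nat.gcd m ((q - 1) / 2)) = Nat.gcd (2 * m) (q - 1) / 2 := by
  obtain ⟨k, rfl⟩ : ∃ k, q = 2 * k + 1 := ⟨q / 2, by omega⟩
  rw [Nat.add_sub_cancel, Nat.gcd_mul_left, Nat.mul_div_cancel_left _ two_pos,
    Nat.mul_div_cancel_left _ two_pos, ← Nat.gcd_assoc, Nat.gcd_eq_right (dvd_mul_left m 2)]

variable {m : ℕ}

theorem StdData.split_J (D : StdData n m F) (p : ℕ) [Fact p.Prime] [CharP F p] (hm : 1 ≤ m) (hnm : n = 2 * m) :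
    Cfsg.splitClassCount (Cfsg.inndiagPSL n F) (Cfsg.Inn (Matrix.ProjectiveSpecialLinearGroup (Fin n) F)) (gam D.J) =
      Nat.gcd m (Fintype.card F - 1) := by
  classical
  rw [split_gam p (by omega) D.J (powMonoidHom m : Fˣ →* Fˣ).range ?_]
  · have h1 := (powMonoidHom m : Fˣ →* Fˣ).range.card_mul_index
    have h2 := index_sup_range_pow (⊥ : Subgroup Fˣ) m
    rw [bot_sup_eq, Subgroup.card_bot, Nat.div_one, Nat.card_units, Nat.card_eq_fintype_card] at h2
    rw [h2, Nat.card_units, Nat.card_eq_fintype_card (α := F)] at h1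
    rw [← h1, Nat.mul_div_cancel_left _ Nat.card_pos, h1, hnm, ← Nat.gcd_assoc,
      Nat.gcd_eq_right (dvd_mul_left m 2)]
  congr 1
  have hval : ∀ h : GL (Fin m ⊕ Fin m) F, GeneralLinearGroup.det (reGL D.eJ h) = GeneralLinearGroup.det h := fun h =>
    Units.ext (Matrix.det_reindex_self _ _)
  show (simGroup (Matrix.reindex D.eJ D.eJ (Matrix.J (Fin m) F))).map GeneralLinearGroup.det = _
  rw [← reGL_sim, Subgroup.map_map]
  apply le_antisymm
  · rintro _ ⟨h, ⟨c, hc⟩, rfl⟩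
    obtain ⟨d, hd, hdd⟩ := scale_J (F := F) m c
    refine ⟨c, ?_⟩
    show c ^ m = GeneralLinearGroup.det (reGL D.eJ h)
    rw [hval, ← hdd]
    have hs : ((h * d⁻¹ : GL (Fin m ⊕ Fin m) F) : Matrix (Fin m ⊕ Fin m) (Fin m ⊕ Fin m) F) ∈
        Matrix.symplecticGroup (Fin m) F := by
      refine SymplecticGroup.mem_iff'.mpr ?_
      calc _ = ((d⁻¹ : GL (Fin m ⊕ Fin m) F) : Matrix _ _ F)ᵀ * ((h : Matrix _ _ F)ᵀ * Matrix.J (Fin m) F *
            (h : Matrix _ _ F)) * ((d⁻¹ : GL (Fin m ⊕ Fin m) F) : Matrix _ _ F) := by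
            simp only [Units.val_mul, transpose_mul, mul_assoc]
        _ = ((d : Matrix _ _ F) * ((d⁻¹ : GL (Fin m ⊕ Fin m) F) : Matrix _ _ F))ᵀ * Matrix.J (Fin m) F *
            ((d : Matrix _ _ F) * ((d⁻¹ : GL (Fin m ⊕ Fin m) F) : Matrix _ _ F)) := by
            rw [hc, ← hd]; simp only [transpose_mul, mul_assoc]
        _ = _ := by rw [← Units.val_mul, mul_inv_cancel, Units.val_one, transpose_one, one_mul, mul_one]
    have h1 : GeneralLinearGroup.det (h * d⁻¹) = 1 := Units.ext (SymplecticGroup.det_eq_one hs)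
    rw [map_mul, map_inv, mul_inv_eq_one] at h1
    exact h1.symm
  · rintro _ ⟨c, rfl⟩
    obtain ⟨d, hd, hdd⟩ := scale_J (F := F) m c
    exact ⟨d, ⟨c, hd⟩, (hval d).trans hdd⟩

theorem StdData.split_sym (D : StdData n m F) (p : ℕ) [Fact p.Prime] [CharP F p] (hodd : Odd (Fintype.card F))
    (hm : 1 ≤ m) (hnm : n = 2 * m) {M : GL (Fin n) F} (hM : (M : Mat)ᵀ = (M : Mat)) :
    Cfsg.splitClassCount (Cfsg.inndiagPSL n F) (Cfsg.Inn (Matrix.ProjectiveSpecialLinearGroup (Fin n) F)) (gam M) =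
      Nat.gcd n (Fintype.card F - 1) / 2 := by
  classical
  set A := Subgroup.zpowers (-1 : Fˣ) ⊔ (powMonoidHom m : Fˣ →* Fˣ).range with hA
  have hd := (GeneralLinearGroup.det M).ne_zero
  rw [split_gam p (by omega) M A ?_]
  · have h1 := A.card_mul_index
    have hneg : (-1 : Fˣ) ≠ 1 := fun h => D.h2 (by
      have := congrArg Units.val h; rw [Units.val_neg, Units.val_one] at this; linear_combination -this)
    haveI : Fact (Nat.Prime 2) := ⟨Nat.prime_two⟩
    have hz : Nat.card (Subgroup.zpowers (-1 : Fˣ)) = 2 := by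
      rw [Nat.card_zpowers]; exact orderOf_eq_prime neg_one_sq hneg
    have hi : A.index = Nat.gcd m ((Fintype.card F - 1) / 2) := by
      rw [hA, index_sup_range_pow, hz, Nat.card_units, Nat.card_eq_fintype_card]
    rw [Nat.card_units, Nat.card_eq_fintype_card (α := F)] at h1
    rw [← h1, Nat.mul_div_cancel_left _ Nat.card_pos, h1, hi, hnm]
    exact gcd_half (Nat.odd_iff.mp hodd)
  congr 1
  apply le_antisymm
  · rintro _ ⟨h, ⟨c, hc⟩, rfl⟩
    have e := det_sq hc
    rw [show (c : F) ^ n = (c : F) ^ m * (c : F) ^ m by rw [← pow_add]; congr 1; omega] at e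
    rcases mul_self_eq_mul_self_iff.mp e with e' | e'
    · exact Subgroup.mem_sup_right ⟨c, Units.ext (by rw [powMonoidHom_apply, Units.val_pow_eq_pow_val]; exact e'.symm)⟩
    · rw [show GeneralLinearGroup.det h = -1 * c ^ m from Units.ext (by
        rw [Units.val_mul, Units.val_pow_eq_pow_val, Units.val_neg, Units.val_one, neg_one_mul]; exact e')]
      exact mul_mem (Subgroup.mem_sup_left (Subgroup.mem_zpowers _)) (Subgroup.mem_sup_right ⟨c, rfl⟩)
  have hneg : (-1 : Fˣ) ∈ (simGroup (M : Mat)).map GeneralLinearGroup.det := by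
    let i0 : Fin n := ⟨0, by omega⟩
    let dv : Fin n → F := fun i => if i = i0 then (M : Mat).det else 1
    have hdet : (Matrix.diagonal dv).det = (M : Mat).det := by simp [dv, Matrix.det_diagonal]
    obtain ⟨g, hg⟩ := cong_of_symm D.h2 (Matrix.diagonal_transpose dv) hM (by rw [hdet]; exact hd) hd
      (by rw [hdet]; exact ⟨_, rfl⟩)
    let rv : Fin n → Fˣ := fun i => if i = i0 then -1 else 1
    have hr : ((diagGL rv : GL (Fin n) F) : Mat)ᵀ * Matrix.diagonal dv * ((diagGL rv : GL (Fin n) F) : Mat) =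
        Matrix.diagonal dv := by
      show (Matrix.diagonal fun i => (rv i : F))ᵀ * _ * _ = _
      rw [Matrix.diagonal_transpose, Matrix.diagonal_mul_diagonal,
        show ((diagGL rv : GL (Fin n) F) : Mat) = Matrix.diagonal (fun i => (rv i : F)) from rfl,
        Matrix.diagonal_mul_diagonal]
      congr 1
      funext i
      by_cases h : i = i0 <;> simp [rv, h]
    refine ⟨g⁻¹ * diagGL rv * g, ⟨1, ?_⟩, ?_⟩
    · rw [Units.val_one, one_smul]
      conv_lhs => rw [← hg]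
      calc _ = (g : Mat)ᵀ * ((diagGL rv : Mat)ᵀ * ((((g : Mat) * ((g⁻¹ : GL (Fin n) F) : Mat)))ᵀ * Matrix.diagonal dv *
            ((g : Mat) * ((g⁻¹ : GL (Fin n) F) : Mat))) * (diagGL rv : Mat)) * (g : Mat) := by
            simp only [Units.val_mul, transpose_mul, mul_assoc]
        _ = _ := by rw [← Units.val_mul, mul_inv_cancel, Units.val_one, transpose_one, one_mul, mul_one, hr, hg]
    · rw [map_mul, map_mul, map_inv, mul_comm (GeneralLinearGroup.det g)⁻¹, inv_mul_cancel_right]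
      refine Units.ext ?_
      show (Matrix.diagonal fun i => (rv i : F)).det = _
      simp [rv, Matrix.det_diagonal, apply_ite (Units.val : Fˣ → F)]
  refine sup_le (Subgroup.zpowers_le.mpr hneg) ?_
  rintro _ ⟨c, rfl⟩
  obtain ⟨h, hh⟩ := scale_symm D.h2 (M : Mat) hM hd (k := m) (by rw [Fintype.card_fin]; exact hnm) c
  have e := det_sq hh
  rw [show (c : F) ^ n = (c : F) ^ m * (c : F) ^ m by rw [← pow_add]; congr 1; omega] at e
  rcases mul_self_eq_mul_self_iff.mp e with e' | e'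
  · exact ⟨h, ⟨c, hh⟩, Units.ext (by rw [powMonoidHom_apply, Units.val_pow_eq_pow_val]; exact e')⟩
  · have hh' : GeneralLinearGroup.det h ∈ (simGroup (M : Mat)).map GeneralLinearGroup.det := ⟨h, ⟨c, hh⟩, rfl⟩
    have := mul_mem hneg hh'
    rwa [show (-1 : Fˣ) * GeneralLinearGroup.det h = powMonoidHom m c from Units.ext (by
      rw [Units.val_mul, Units.val_neg, Units.val_one, powMonoidHom_apply, Units.val_pow_eq_pow_val]
      show -1 * (h : Mat).det = _
      rw [e']; ring)] at this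

/-- Symmetric type centralisers are not symplectic. -/
theorem StdData.not_sp (D : StdData n m F) (hodd : Odd (Fintype.card F)) (hm : 1 ≤ m) :
    ¬ Nonempty (Cfsg.PGO F (Cfsg.quadFormPlus m F) ≃* Cfsg.PGSp m F) ∧
    ¬ Nonempty (Cfsg.PGO F (Cfsg.quadFormMinus (m - 1) F D.a D.b) ≃* Cfsg.PGSp m F) := by
  classical
  haveI : Nonempty (Fin m ⊕ Fin m) := ⟨Sum.inl ⟨0, by omega⟩⟩
  haveI : Nonempty ((Fin (m - 1) ⊕ Fin (m - 1)) ⊕ Fin 2) := ⟨Sum.inr 0⟩
  have hJ : Nat.card (Cfsg.PGSp m F) = Nat.card (Matrix.symplecticGroup (Fin m) F) := by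
    have hcard := card_projSim (Matrix.J (Fin m) F)
      (fun h => (Matrix.isUnit_det_J (Fin m) F).ne_zero (by rw [h, Matrix.det_zero]))
      (fun c => let ⟨h, hh, _⟩ := scale_J (F := F) m c; ⟨h, hh⟩)
    rw [← GSp_eq] at hcard
    refine hcard.trans ?_
    rw [Nat.card_congr ((Cfsg.Agent.Lib.Classical.spEquivGL m F).trans (MulEquiv.subgroupCongr ?_)).toEquiv]
    ext g
    constructor
    · intro hg
      exact SymplecticGroup.mem_iff'.mp (Cfsg.Agent.Lib.Geometry.mem_symplecticGroup_iff_form.mpr hg)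
    · intro hg
      exact Cfsg.Agent.Lib.Geometry.mem_symplecticGroup_iff_form.mp (SymplecticGroup.mem_iff'.mpr hg)
  have hP : Nat.card (Cfsg.PGO F (Cfsg.quadFormPlus m F)) = Nat.card (Cfsg.isometryGroup F (Cfsg.quadFormPlus m F)) := by
    have hcard := card_projSim (plusMatrix m F + (plusMatrix m F)ᵀ)
      (fun h => StdData.detP (F := F) (m := m) (by rw [h, Matrix.det_zero]))
      (scale_symm D.h2 _ (sym_gram _) StdData.detP (k := m) (by simp; omega))
    rw [← quadSim_eq D.h2, ← quadIso_eq D.h2, ← quadFormPlus_eq] at hcard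
    exact hcard
  have hN : Nat.card (Cfsg.PGO F (Cfsg.quadFormMinus (m - 1) F D.a D.b)) =
      Nat.card (Cfsg.isometryGroup F (Cfsg.quadFormMinus (m - 1) F D.a D.b)) := by
    have hcard := card_projSim (minusMatrix (m - 1) D.a D.b + (minusMatrix (m - 1) D.a D.b)ᵀ)
      (fun h => D.detM (by rw [h, Matrix.det_zero]))
      (scale_symm D.h2 _ (sym_gram _) D.detM (k := m) (by simp; omega))
    rw [← quadSim_eq D.h2, ← quadIso_eq D.h2, ← quadFormMinus_eq] at hcard
    exact hcard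
  set q := Fintype.card F with hq
  obtain ⟨k, rfl⟩ : ∃ k, m = k + 1 := ⟨m - 1, by omega⟩
  have hq1 : 1 < q := Fintype.one_lt_card
  have hq3 : 3 ≤ q := by
    have := Nat.odd_iff.mp hodd
    omega
  have hQ : 3 ≤ q ^ (k + 1) := hq3.trans (Nat.le_self_pow (by omega) q)
  have hsq : q ^ (2 * (k + 1)) = q ^ (k + 1) * q ^ (k + 1) := by rw [← pow_add]; congr 1; omega
  have hexp : q ^ ((k + 1) ^ 2) = q ^ ((k + 1) * k) * q ^ (k + 1) := by rw [← pow_add]; congr 1; ring
  have hprod : 0 < ∏ i ∈ Finset.range k, (q ^ (2 * (i + 1)) - 1) := Finset.prod_pos fun i _ =>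
    Nat.sub_pos_of_lt (Nat.one_lt_pow (by omega) hq1)
  have hpow : 0 < q ^ ((k + 1) * k) := pow_pos (by omega) _
  have key : ∀ e : ℕ, e ≤ q ^ (k + 1) + 1 → 2 * q ^ ((k + 1) * k) * e * ∏ i ∈ Finset.range k, (q ^ (2 * (i + 1)) - 1) ≠
      q ^ ((k + 1) ^ 2) * ∏ i ∈ Finset.range (k + 1), (q ^ (2 * (i + 1)) - 1) := by
    intro e he h
    rw [Finset.prod_range_succ, hexp, hsq] at h
    set Q := q ^ (k + 1)
    set P := ∏ i ∈ Finset.range k, (q ^ (2 * (i + 1)) - 1)
    set R := q ^ ((k + 1) * k)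
    have h' : (R * P) * (2 * e) = (R * P) * (Q * (Q * Q - 1)) := by linarith
    have h'' := Nat.eq_of_mul_eq_mul_left (Nat.mul_pos hpow hprod) h'
    have h8 : 9 ≤ Q * Q := Nat.mul_le_mul hQ hQ
    have h24 : Q * 8 ≤ Q * (Q * Q - 1) := Nat.mul_le_mul_left Q (by omega)
    omega
  constructor <;> rintro ⟨e⟩ <;> have hc := Nat.card_congr e.toEquiv
  · rw [hJ, hP, Cfsg.Agent.Lib.Classical.card_orth_plus rfl _ (by omega), Cfsg.Agent.Lib.Classical.card_sp] at hc
    exact key _ (le_trans (Nat.sub_le _ _) (Nat.le_add_right _ _)) hc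
  · rw [hJ, hN, Cfsg.Agent.Lib.Classical.card_orth_minus rfl _ (by omega) _ _ D.hab,
      Cfsg.Agent.Lib.Classical.card_sp] at hc
    exact key _ le_rfl hc

end Split

theorem split_conj {n : ℕ} {F : Type*} [Field F] {x y : MulAut (Matrix.ProjectiveSpecialLinearGroup (Fin n) F)}
    (h : Cfsg.IsConjUnder (Cfsg.inndiagPSL n F) x y) :
    Cfsg.splitClassCount (Cfsg.inndiagPSL n F) (Cfsg.Inn (Matrix.ProjectiveSpecialLinearGroup (Fin n) F)) y =
      Cfsg.splitClassCount (Cfsg.inndiagPSL n F) (Cfsg.Inn (Matrix.ProjectiveSpecialLinearGroup (Fin n) F)) x := by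
  obtain ⟨a, ha, rfl⟩ := h
  exact splitClassCount_conj _ _ ha x

theorem s2702 {n : ℕ} {F : Type*} [Field F] [Fintype F] (p f : ℕ) [Fact p.Prime] [CharP F p]
    (hF : Fintype.card F = p ^ f) (hf : 1 ≤ f) (hn : 3 ≤ n)
    (γ : MulAut (Matrix.ProjectiveSpecialLinearGroup (Fin n) F)) (hγ : Cfsg.IsGraphAutClassPSL γ)
    (hγ2 : orderOf γ = 2) :
    ((Even n ∧ Odd p ∧ Nonempty (↥(Cfsg.inndiagPSL n F ⊓ Subgroup.centralizer {γ}) ≃* Cfsg.PGSp (n / 2) F)) →
      Cfsg.splitClassCount (Cfsg.inndiagPSL n F) (Cfsg.Inn (Matrix.ProjectiveSpecialLinearGroup (Fin n) F)) γ =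
        Nat.gcd (n / 2) (p ^ f - 1)) ∧
    ((Even n ∧ Odd p ∧ ¬ Nonempty (↥(Cfsg.inndiagPSL n F ⊓ Subgroup.centralizer {γ}) ≃* Cfsg.PGSp (n / 2) F)) →
      Cfsg.splitClassCount (Cfsg.inndiagPSL n F) (Cfsg.Inn (Matrix.ProjectiveSpecialLinearGroup (Fin n) F)) γ =
        Nat.gcd n (p ^ f - 1) / 2) ∧
    (¬ (Even n ∧ Odd p) →
      Cfsg.splitClassCount (Cfsg.inndiagPSL n F) (Cfsg.Inn (Matrix.ProjectiveSpecialLinearGroup (Fin n) F)) γ =
        Nat.gcd n (p ^ f - 1)) := by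
  classical
  obtain ⟨M, rfl, hM⟩ := exists_gam p hγ hγ2
  have hn2 : 2 ≤ n := by omega
  have base : Even n → Odd p → ∃ D : StdData n (n / 2) F, 1 ≤ n / 2 ∧ n = 2 * (n / 2) ∧ Odd (Fintype.card F) := by
    intro he hp
    have hnm : n = 2 * (n / 2) := by rw [Nat.even_iff] at he; omega
    have hodd : Odd (Fintype.card F) := hF ▸ hp.pow
    obtain ⟨D⟩ := exists_stdData (n := n) (F := F) hodd (by omega : 1 ≤ n / 2) hnm
    exact ⟨D, by omega, hnm, hodd⟩
  have toStd : ∀ {S : GL (Fin n) F}, Cong (S : Matrix (Fin n) (Fin n) F) (M : Matrix (Fin n) (Fin n) F) →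
      Cfsg.IsConjUnder (Cfsg.inndiagPSL n F) (gam M) (gam S) ∧
      Nonempty (↥(Cfsg.inndiagPSL n F ⊓ Subgroup.centralizer {gam M}) ≃*
        ↥(Cfsg.inndiagPSL n F ⊓ Subgroup.centralizer {gam S})) := fun {S} h =>
    centralizer_conj p hn2 1 (by
      rw [show ((1 : Fˣ) : F) • (S : Matrix (Fin n) (Fin n) F) = (S : Matrix (Fin n) (Fin n) F) by simp]
      exact h.symm)
  refine ⟨fun ⟨he, hp, hiso⟩ => ?_, fun ⟨he, hp, hniso⟩ => ?_, fun h => ?_⟩
  · obtain ⟨D, hm, hnm, hodd⟩ := base he hp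
    rcases D.classify hodd hm hnm hM with ⟨hc, -⟩ | ⟨hc, -⟩
    · rw [← split_conj (toStd hc).1, D.split_J p hm hnm, hF]
    · exfalso
      obtain ⟨e⟩ := hiso
      rcases hc with hc | hc
      · obtain ⟨a⟩ := (toStd hc).2
        obtain ⟨b⟩ := D.centralizer_P p hn2
        exact (D.not_sp hodd hm).1 ⟨(a.trans b).symm.trans e⟩
      · obtain ⟨a⟩ := (toStd hc).2
        obtain ⟨b⟩ := D.centralizer_N p hn2
        exact (D.not_sp hodd hm).2 ⟨(a.trans b).symm.trans e⟩
  · obtain ⟨D, hm, hnm, hodd⟩ := base he hp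
    rcases D.classify hodd hm hnm hM with ⟨hc, -⟩ | ⟨-, hs⟩
    · exfalso
      obtain ⟨a⟩ := (toStd hc).2
      obtain ⟨b⟩ := D.centralizer_J p hn2
      exact hniso ⟨a.trans b⟩
    · rw [D.split_sym p hodd hm hnm hs, hF]
  · rw [split_simple p hn2 M ?_, hF]
    rcases Nat.even_or_odd n with he | ho
    · refine Or.inr ?_
      have hp : p = 2 := ((Fact.out : p.Prime).eq_two_or_odd').resolve_right fun ho => h ⟨he, ho⟩
      subst hp
      exact_mod_cast CharP.cast_eq_zero F 2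
    · exact Or.inl ho

end Cfsg.Agent.Lib.Geometry.GraphAut
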