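import Cfsg.Agent.Lib.Classical.AutPSU.FieldClass
import Cfsg.Agent.Lib.Geometry.GraphAut.Sim

/-!
Involutory graph automorphisms of `PSU_n(q)` as forms over the field with `q` elements.
-/

set_option autoImplicit false

namespace Cfsg.Agent.Lib.Geometry.GraphAut

open Matrix
open Cfsg.Agent.Lib.Classical (conjHom conjHom_apply conjHom_conjHom conjHom_ne_id exists_q_pow)
open Cfsg.Agent.Lib.Classical.AutPSU (dia fld galG galG_coe fld_mul_dia scU scU_coe dia_scU dia_eq_one_iff U1 mem_U1)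
open Cfsg.Agent.Lib.Geometry (exists_mul_conj_eq)

variable {F : Type*} [Field F] [Fintype F] {q n : ℕ} (hF : Fintype.card F = q ^ 2)

set_option quotPrecheck false in
local notation "GUn" => Subtype (fun A => A ∈ Cfsg.GU n F q)
set_option quotPrecheck false in
local notation "GLn" => GL (Fin n) F
set_option quotPrecheck false in
local notation "Mat" => Matrix (Fin n) (Fin n) F
set_option quotPrecheck false in
local notation "PSUn" => Cfsg.PSU n F q
set_option quotPrecheck false in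
local notation "σq" => conjHom hF

/-- The `q`-th power map as an automorphism. -/
noncomputable def cE : F ≃+* F :=
  RingEquiv.ofBijective σq (Function.Involutive.bijective (conjHom_conjHom hF))

theorem cE_apply (x : F) : cE hF x = σq x := rfl

theorem cE_sq : cE hF * cE hF = 1 := RingEquiv.ext fun x => conjHom_conjHom hF x

theorem cE_ne_one : cE hF ≠ 1 := fun h =>
  conjHom_ne_id hF (RingHom.ext fun x => RingEquiv.congr_fun h x)

theorem orderOf_cE : orderOf (cE hF) = 2 := by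
  haveI : Fact (Nat.Prime 2) := ⟨Nat.prime_two⟩
  exact orderOf_eq_prime (by rw [pow_two, cE_sq]) (cE_ne_one hF)

/-- The graph automorphism of a unitary matrix. -/
noncomputable def gU (g : GUn) : MulAut PSUn := dia g * fld (cE hF)

omit [Fintype F] in
theorem mapq_mul (σ : F →+* F) (X Y : Mat) : (X * Y).map σ = X.map σ * Y.map σ := Matrix.map_mul

theorem mapq_smul (a : F) (X : Mat) : (a • X).map σq = σq a • X.map σq :=
  Matrix.map_smul' _ _ _ (map_mul σq)

theorem mapq_mapq (X : Mat) : (X.map σq).map σq = X := by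
  ext i k; exact conjHom_conjHom hF _

theorem mapq_one : (1 : Mat).map σq = 1 := Matrix.map_one _ (map_zero _) (map_one _)

theorem mapq_ne_zero {a : F} (h : a ≠ 0) : σq a ≠ 0 := (map_ne_zero_iff _ (RingHom.injective _)).mpr h

theorem gu_eq (t : GUn) : (t.1 : Mat)ᵀ * (t.1 : Mat).map σq = 1 :=
  (Cfsg.Agent.Lib.Classical.mem_GU_iff hF t.1).mp t.2

theorem gu_eq' (t : GUn) : (t.1 : Mat).map σq * (t.1 : Mat)ᵀ = 1 := mul_eq_one_comm.mp (gu_eq hF t)

theorem map_inv_GU (t : GUn) : ((t⁻¹ : GUn).1 : Mat).map σq = (t.1 : Mat)ᵀ := by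
  have h : ((t⁻¹ : GUn).1 : Mat).map σq * (t.1 : Mat).map σq = 1 := by
    rw [← mapq_mul, ← Units.val_mul, ← Subgroup.coe_mul, inv_mul_cancel, Subgroup.coe_one, Units.val_one,
      mapq_one]
  exact left_inv_eq_right_inv h (gu_eq' hF t)

omit [Fintype F] in
theorem scalar_smul (w : F) : Matrix.scalar (Fin n) w = w • (1 : Mat) := by
  rw [Matrix.smul_one_eq_diagonal]; rfl

section

variable (p : ℕ) [Fact p.Prime] [CharP F p]

include hF p in
theorem dia_eq_of_smul (hn : 3 ≤ n) {g g' : GUn} {w : F} (h : (g'.1 : Mat) = w • (g.1 : Mat)) :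
    (dia g' : MulAut PSUn) = dia g := by
  haveI : Nonempty (Fin n) := ⟨⟨0, by omega⟩⟩
  have hw : w * σq w = 1 := by
    have e := gu_eq hF g'
    rw [h, transpose_smul, mapq_smul, smul_mul_assoc, mul_smul_comm, smul_smul, gu_eq hF g] at e
    exact smul_left_injective F one_ne_zero (show (w * σq w) • (1 : Mat) = (1 : F) • 1 by rw [e, one_smul])
  have hw0 : w ≠ 0 := fun h0 => zero_ne_one (by rw [← hw, h0, zero_mul])
  have e : (dia (g⁻¹ * g') : MulAut PSUn) = 1 := by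
    refine (dia_eq_one_iff hF p hn _).mpr ⟨⟨Units.mk0 w hw0, mem_U1.mpr ?_⟩, Subtype.ext (Units.ext ?_)⟩
    · rw [Units.val_mk0, pow_succ', ← conjHom_apply hF, hw]
    · rw [Subgroup.coe_mul, Units.val_mul, h, mul_smul_comm, ← Units.val_mul, ← Subgroup.coe_mul, inv_mul_cancel,
        scU_coe, scalar_smul]
      rfl
  rw [map_mul, map_inv, inv_mul_eq_one] at e
  exact e.symm

include hF p in
theorem smul_of_dia_eq (hn : 3 ≤ n) {g g' : GUn} (h : (dia g' : MulAut PSUn) = dia g) :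
    ∃ w : F, w ≠ 0 ∧ (g'.1 : Mat) = w • (g.1 : Mat) := by
  have e : (dia (g⁻¹ * g') : MulAut PSUn) = 1 := by rw [map_mul, map_inv, h, inv_mul_cancel]
  obtain ⟨u, hu⟩ := (dia_eq_one_iff hF p hn _).mp e
  refine ⟨((u : Fˣ) : F), (u : Fˣ).ne_zero, ?_⟩
  have h' : (g'.1 : Mat) = (g.1 : Mat) * ((scU (n := n) u).1 : Mat) := by
    rw [← Units.val_mul, ← Subgroup.coe_mul, ← hu, mul_inv_cancel_left]
  rw [h', scU_coe, scalar_smul, mul_smul_comm, mul_one]

end

/-- The twisted conjugate. -/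
noncomputable def congrU (t g : GUn) : GUn := t * g * galG (cE hF) t⁻¹

theorem congrU_coe (t g : GUn) :
    ((congrU hF t g).1 : Mat) = (t.1 : Mat) * (g.1 : Mat) * (t.1 : Mat)ᵀ := by
  rw [congrU, Subgroup.coe_mul, Subgroup.coe_mul, Units.val_mul, Units.val_mul, galG_coe, ← map_inv_GU hF t]
  rfl

theorem conj_gU (t g : GUn) : dia t * gU hF g * (dia t)⁻¹ = gU hF (congrU hF t g) := by
  rw [gU, gU, congrU, map_mul, map_mul, mul_assoc, mul_assoc (dia g), ← map_inv, fld_mul_dia]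
  simp only [mul_assoc]

section

variable (p : ℕ) [Fact p.Prime] [CharP F p]

include p in
theorem gU_eq_iff (hn : 3 ≤ n) {g g' : GUn} :
    gU hF g' = gU hF g ↔ ∃ w : F, w ≠ 0 ∧ (g'.1 : Mat) = w • (g.1 : Mat) := by
  rw [gU, gU, mul_left_inj]
  exact ⟨smul_of_dia_eq hF p hn, fun ⟨w, _, h⟩ => dia_eq_of_smul hF p hn h⟩

include p in
theorem conjUnder_gU_iff (hn : 3 ≤ n) (g g' : GUn) :
    Cfsg.IsConjUnder (Cfsg.inndiagPSU n F q) (gU hF g) (gU hF g') ↔
      ∃ (t : GUn) (w : F), w ≠ 0 ∧ (g'.1 : Mat) = w • ((t.1 : Mat) * (g.1 : Mat) * (t.1 : Mat)ᵀ) := by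
  rw [Cfsg.IsConjUnder, Cfsg.Agent.Lib.Classical.AutPSU.inndiag_eq]
  constructor
  · rintro ⟨_, ⟨t, rfl⟩, e⟩
    rw [conj_gU] at e
    obtain ⟨w, hw, h⟩ := (gU_eq_iff hF p hn).mp e
    exact ⟨t, w, hw, by rw [h, congrU_coe]⟩
  · rintro ⟨t, w, hw, h⟩
    refine ⟨dia t, ⟨t, rfl⟩, ?_⟩
    rw [conj_gU]
    exact (gU_eq_iff hF p hn).mpr ⟨w, hw, by rw [h, congrU_coe]⟩

include p in
theorem mem_centralizer_gU (hn : 3 ≤ n) (g h : GUn) :
    dia h ∈ Subgroup.centralizer {gU hF g} ↔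
      ∃ w : F, w ≠ 0 ∧ (h.1 : Mat) * (g.1 : Mat) * (h.1 : Mat)ᵀ = w • (g.1 : Mat) := by
  rw [Subgroup.mem_centralizer_singleton_iff, ← mul_inv_eq_iff_eq_mul, conj_gU, gU_eq_iff hF p hn]
  simp only [congrU_coe]

end

/-! ### The form over the fixed field -/

variable {F₀ : Type*} [Field F₀] (j : F₀ →+* F) (hj : ∀ a : F, conjHom hF a = a ↔ ∃ b, j b = a)

set_option quotPrecheck false in
local notation "M₀" => Matrix (Fin n) (Fin n) F₀

theorem exists_fix_hom [Fintype F₀] (hF₀ : Fintype.card F₀ = q) :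
    ∃ j : F₀ →+* F, ∀ a, σq a = a ↔ ∃ b, j b = a := by
  obtain ⟨p, f, hp, hc, rfl⟩ := exists_q_pow hF
  haveI : Fact p.Prime := ⟨hp⟩
  obtain ⟨j, hj⟩ := Cfsg.Agent.Lib.Classical.AutPSL.exists_fixedField_hom (p := p) (f := 2 * f) (F := F)
    (by rw [hF, ← pow_mul, mul_comm]) (orderOf_cE hF) (dvd_mul_right 2 f) (F₀ := F₀)
    (by rw [hF₀, Nat.mul_div_cancel_left _ two_pos])
  exact ⟨j, hj⟩

/-- `g` is represented by the matrix `N` over the fixed field. -/
def Rep (g : GUn) (N : Matrix (Fin n) (Fin n) F₀) : Prop :=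
  ∃ (A : GLn) (z μ : F), z ≠ 0 ∧ (g.1 : Mat) * (A : Mat).map σq = z • (A : Mat) ∧
    (A : Mat)ᵀ * (A : Mat).map σq = μ • N.map j

include hj in
theorem mapq_j (K : M₀) : (K.map j).map σq = K.map j := by
  ext i k; exact (hj _).mpr ⟨_, rfl⟩

theorem j_smul (c : F₀) (K : M₀) : (c • K).map j = j c • K.map j := Matrix.map_smul' _ _ _ (map_mul j)

theorem map_j_injective : Function.Injective fun K : M₀ => K.map j := Matrix.map_injective j.injective

/-- Substituting `A * K`. -/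
theorem form_mul {A : Mat} {μ : F} {N : M₀} (h : Aᵀ * A.map σq = μ • N.map j) (e : F) (K : M₀)
    (hK : (K.map j).map σq = K.map j) :
    (e • (A * K.map j))ᵀ * (e • (A * K.map j)).map σq = (e * σq e * μ) • (Kᵀ * N * K).map j := by
  rw [mapq_smul, mapq_mul, hK, transpose_smul, smul_mul_assoc, mul_smul_comm, smul_smul, transpose_mul,
    mul_assoc (K.map j)ᵀ, ← mul_assoc Aᵀ, h, smul_mul_assoc, mul_smul_comm, smul_smul, Matrix.map_mul,
    Matrix.map_mul, ← Matrix.transpose_map]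
  simp only [mul_assoc]

include hj in
theorem exists_descend {X : Mat} {l : F} (hX : X.map σq = l • X) (hX0 : X ≠ 0) :
    ∃ (e : F) (K : M₀), e ≠ 0 ∧ X = e • K.map j := by
  obtain ⟨a, b, hab⟩ : ∃ a b, X a b ≠ 0 := by
    by_contra h
    push Not at h
    exact hX0 (Matrix.ext h)
  have hl : ∀ i k, σq (X i k) = l * X i k := fun i k => congrFun (congrFun hX i) k
  have hfix : ∀ i k, σq (X i k / X a b) = X i k / X a b := fun i k => by
    have hl0 : l ≠ 0 := fun h0 => mapq_ne_zero hF hab (by rw [hl, h0, zero_mul])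
    rw [map_div₀, hl, hl, mul_div_mul_left _ _ hl0]
  choose K hK using fun i k => (hj _).mp (hfix i k)
  refine ⟨X a b, Matrix.of K, hab, Matrix.ext fun i k => ?_⟩
  rw [Matrix.smul_apply, Matrix.map_apply, Matrix.of_apply, hK, smul_eq_mul, mul_div_cancel₀ _ hab]

theorem smul_map_eq {X Y : M₀} {s : F} (h : Y.map j = s • X.map j) (hY : Y ≠ 0) :
    ∃ c : F₀, c ≠ 0 ∧ Y = c • X ∧ j c = s := by
  obtain ⟨a, b, hab⟩ : ∃ a b, Y a b ≠ 0 := by
    by_contra h'
    push Not at h'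
    exact hY (Matrix.ext h')
  have e : j (Y a b) = s * j (X a b) := congrFun (congrFun h a) b
  have hX : X a b ≠ 0 := fun h0 => hab (j.injective (by rw [e, h0, map_zero, mul_zero]))
  have hc : j (Y a b / X a b) = s := by
    rw [map_div₀, e, mul_div_cancel_right₀ _ ((map_ne_zero_iff _ j.injective).mpr hX)]
  refine ⟨_, div_ne_zero hab hX, map_j_injective j ?_, hc⟩
  show Y.map j = (_ • X).map j
  rw [j_smul, hc, h]

include hj in
/-- Two representing matrices differ by a matrix over the fixed field. -/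
theorem compare (hn : 1 ≤ n) {g : Mat} {A A' : GLn} {z z' : F} (hz : z ≠ 0)
    (h : g * (A : Mat).map σq = z • (A : Mat)) (h' : g * (A' : Mat).map σq = z' • (A' : Mat)) :
    ∃ (e : F) (K : GL (Fin n) F₀), e ≠ 0 ∧ (A' : Mat) = e • ((A : Mat) * (K : M₀).map j) := by
  haveI : Nonempty (Fin n) := ⟨⟨0, by omega⟩⟩
  set X := ((A⁻¹ : GLn) : Mat) * (A' : Mat) with hX
  have hAX : (A : Mat) * X = A' := by
    rw [hX, ← mul_assoc, ← Units.val_mul, mul_inv_cancel, Units.val_one, one_mul]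
  have hXq : X.map σq = (z' / z) • X := by
    have e1 : z • ((A : Mat) * X.map σq) = z' • ((A : Mat) * X) := by
      rw [← smul_mul_assoc, ← h, mul_assoc, ← mapq_mul, hAX, h']
    refine (Units.mul_right_inj A).mp ?_
    rw [mul_smul_comm, div_eq_inv_mul, mul_smul, ← e1, smul_smul,
      inv_mul_cancel₀ hz, one_smul]
  have hX0 : X ≠ 0 := fun h0 => A'.ne_zero (by rw [← hAX, h0, mul_zero])
  obtain ⟨e, K, he, hK⟩ := exists_descend hF j hj hXq hX0
  have hdet : K.det ≠ 0 := by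
    intro h0
    refine (GeneralLinearGroup.det A').ne_zero ?_
    show (A' : Mat).det = 0
    rw [← hAX, hK, det_mul, det_smul, ← RingHom.mapMatrix_apply, ← RingHom.map_det, h0, map_zero, mul_zero,
      mul_zero]
  refine ⟨e, GeneralLinearGroup.mkOfDetNeZero K hdet, he, ?_⟩
  rw [← hAX, hK, mul_smul_comm]
  rfl

theorem Rep.ne_zero (hn : 1 ≤ n) {g : GUn} {N : M₀} {A : GLn} {μ : F}
    (h : (A : Mat)ᵀ * (A : Mat).map σq = μ • N.map j) : μ ≠ 0 ∧ N ≠ 0 ∧ N.det ≠ 0 := by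
  haveI : Nonempty (Fin n) := ⟨⟨0, by omega⟩⟩
  have hd : ((A : Mat)ᵀ * (A : Mat).map σq).det ≠ 0 := by
    rw [det_mul, det_transpose, ← RingHom.mapMatrix_apply, ← RingHom.map_det]
    exact mul_ne_zero (GeneralLinearGroup.det A).ne_zero (mapq_ne_zero hF (GeneralLinearGroup.det A).ne_zero)
  rw [h, det_smul, ← RingHom.mapMatrix_apply, ← RingHom.map_det, mul_ne_zero_iff] at hd
  have hμ : μ ≠ 0 := fun h0 => hd.1 (by rw [h0, zero_pow (by simp; omega)])
  have hN : N.det ≠ 0 := fun h0 => hd.2 (by rw [h0, map_zero])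
  exact ⟨hμ, fun h0 => hN (by rw [h0, Matrix.det_zero]), hN⟩

include hj in
theorem Rep.change {g : GUn} {N N' : M₀} (h : Rep hF j g N) (K : GL (Fin n) F₀) {c : F₀}
    (hK : (K : M₀)ᵀ * N * (K : M₀) = c • N') : Rep hF j g N' := by
  obtain ⟨A, z, μ, hz, h1, h2⟩ := h
  refine ⟨A * Units.map (RingHom.toMonoidHom j.mapMatrix) K, z, μ * j c, hz, ?_, ?_⟩
  · show (g.1 : Mat) * ((A : Mat) * (K : M₀).map j).map σq = z • ((A : Mat) * (K : M₀).map j)
    rw [mapq_mul, mapq_j hF j hj, ← mul_assoc, h1, smul_mul_assoc]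
  · show ((A : Mat) * (K : M₀).map j)ᵀ * ((A : Mat) * (K : M₀).map j).map σq = _
    have := form_mul hF j h2 1 (K : M₀) (mapq_j hF j hj _)
    rw [one_smul, map_one, one_mul, one_mul, hK, j_smul, smul_smul] at this
    exact this

include hj in
theorem Rep.of_cong {g : GUn} {N N' : M₀} (h : Rep hF j g N) (c : F₀)
    (hc : ∃ K : GL (Fin n) F₀, (K : M₀)ᵀ * N * (K : M₀) = c • N') : Rep hF j g N' :=
  let ⟨K, hK⟩ := hc; h.change hF j hj K hK

theorem Rep.conj {g g' : GUn} {N : M₀} (h : Rep hF j g N) (t : GUn) {w : F} (hw : w ≠ 0)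
    (e : (g'.1 : Mat) = w • ((t.1 : Mat) * (g.1 : Mat) * (t.1 : Mat)ᵀ)) : Rep hF j g' N := by
  obtain ⟨A, z, μ, hz, h1, h2⟩ := h
  refine ⟨t.1 * A, w * z, μ, mul_ne_zero hw hz, ?_, ?_⟩
  · rw [Units.val_mul, mapq_mul, e, smul_mul_assoc, mul_assoc ((t.1 : Mat) * (g.1 : Mat)),
      ← mul_assoc (t.1 : Mat)ᵀ, gu_eq hF, one_mul, mul_assoc, h1, mul_smul_comm, smul_smul]
  · rw [Units.val_mul, mapq_mul, transpose_mul, mul_assoc, ← mul_assoc (t.1 : Mat)ᵀ, gu_eq hF, one_mul, h2]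

include hj in
theorem Rep.unique (hn : 1 ≤ n) {g : GUn} {N N' : M₀} (h : Rep hF j g N) (h' : Rep hF j g N') :
    ∃ (K : GL (Fin n) F₀) (c : F₀ˣ), N' = (c : F₀) • ((K : M₀)ᵀ * N * (K : M₀)) := by
  obtain ⟨A, z, μ, hz, h1, h2⟩ := h
  obtain ⟨A', z', μ', -, h1', h2'⟩ := h'
  obtain ⟨e, K, he, hK⟩ := compare hF j hj hn hz h1 h1'
  obtain ⟨hμ', hN', -⟩ := Rep.ne_zero hF j hn (g := g) h2'
  rw [hK, form_mul hF j h2 e (K : M₀) (mapq_j hF j hj _)] at h2'
  have e' : N'.map j = (μ'⁻¹ * (e * σq e * μ)) • ((K : M₀)ᵀ * N * (K : M₀)).map j := by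
    rw [mul_smul, h2', inv_smul_smul₀ hμ']
  obtain ⟨c, hc0, hc, -⟩ := smul_map_eq j e' hN'
  exact ⟨K, Units.mk0 c hc0, hc⟩

theorem fixed_mul_self (a : F) : σq (a * σq a) = a * σq a := by
  rw [map_mul, conjHom_conjHom, mul_comm]

theorem exists_norm {s : F} (hs : σq s = s) : ∃ a : F, a * σq a = s :=
  let ⟨a, ha⟩ := exists_mul_conj_eq (conjHom_ne_id hF) (conjHom_conjHom hF) hs
  ⟨a, by rw [mul_comm]; exact ha⟩

include hj in
/-- A matrix commuting with the graph automorphism. -/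
theorem exists_lift {g : GUn} {N : M₀} {A : GLn} {z μ : F} (hn : 1 ≤ n)
    (h1 : (g.1 : Mat) * (A : Mat).map σq = z • (A : Mat)) (h2 : (A : Mat)ᵀ * (A : Mat).map σq = μ • N.map j)
    (K : GL (Fin n) F₀) {c : F₀} (hc : (K : M₀)ᵀ * N * (K : M₀) = c • N) {w : F} (hw : w * σq w * j c = 1) :
    ∃ h : GUn, (h.1 : Mat) * (A : Mat) = w • ((A : Mat) * (K : M₀).map j) ∧
      (∃ l : F, l ≠ 0 ∧ (h.1 : Mat) * (g.1 : Mat) * (h.1 : Mat)ᵀ = l • (g.1 : Mat)) := by
  have hw0 : w ≠ 0 := fun h0 => zero_ne_one (by rw [← hw, h0, zero_mul, zero_mul])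
  set H : GLn := GeneralLinearGroup.scalar (Fin n) (Units.mk0 w hw0) *
    (A * Units.map (RingHom.toMonoidHom j.mapMatrix) K * A⁻¹) with hH
  have hHA : (H : Mat) * (A : Mat) = w • ((A : Mat) * (K : M₀).map j) := by
    rw [← Units.val_mul, hH, mul_assoc, inv_mul_cancel_right, Units.val_mul, Units.val_mul]
    show Matrix.scalar (Fin n) w * ((A : Mat) * (K : M₀).map j) = _
    rw [scalar_smul, smul_mul_assoc, one_mul]
  have hu : H ∈ Cfsg.GU n F q := by
    refine (Cfsg.Agent.Lib.Classical.mem_GU_iff hF H).mpr ?_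
    have e : ((H : Mat) * (A : Mat))ᵀ * ((H : Mat) * (A : Mat)).map σq = (A : Mat)ᵀ * (A : Mat).map σq := by
      rw [hHA, form_mul hF j h2 w (K : M₀) (mapq_j hF j hj _), hc, j_smul, smul_smul, h2,
        show w * σq w * μ * j c = μ by linear_combination μ * hw]
    rw [mapq_mul, transpose_mul, mul_assoc, ← mul_assoc (H : Mat)ᵀ] at e
    have hAu : IsUnit ((A : Mat).map σq) := ⟨Units.map (RingHom.toMonoidHom (σq).mapMatrix) A, rfl⟩
    have hAt : IsUnit (A : Mat)ᵀ := by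
      rw [Matrix.isUnit_iff_isUnit_det, det_transpose]; exact ⟨GeneralLinearGroup.det A, rfl⟩
    have e' := hAt.mul_left_cancel e
    conv_rhs at e' => rw [← one_mul ((A : Mat).map σq)]
    exact hAu.mul_right_cancel e'
  refine ⟨⟨H, hu⟩, hHA, w / σq w, div_ne_zero hw0 (mapq_ne_zero hF hw0), ?_⟩
  show (H : Mat) * (g.1 : Mat) * (H : Mat)ᵀ = _
  have hg : (g.1 : Mat) * (H : Mat).map σq = (σq w / w) • ((H : Mat) * (g.1 : Mat)) := by
    have hAu : IsUnit ((A : Mat).map σq) := ⟨Units.map (RingHom.toMonoidHom (σq).mapMatrix) A, rfl⟩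
    refine hAu.mul_right_cancel ?_
    rw [mul_assoc, ← mapq_mul, hHA, mapq_smul, mapq_mul, mapq_j hF j hj, mul_smul_comm, ← mul_assoc, h1,
      smul_mul_assoc, smul_mul_assoc, mul_assoc (H : Mat), h1, mul_smul_comm, hHA, smul_smul, smul_smul, smul_smul]
    congr 1
    field_simp
  have hg' : (H : Mat) * (g.1 : Mat) = (w / σq w) • ((g.1 : Mat) * (H : Mat).map σq) := by
    rw [hg, smul_smul, div_mul_div_cancel₀ (mapq_ne_zero hF hw0), div_self hw0, one_smul]
  rw [hg', smul_mul_assoc, mul_assoc, gu_eq' hF ⟨H, hu⟩, mul_one]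

include hj in
/-- The matrices commuting with the graph automorphism come from similitudes. -/
theorem exists_sim {g : GUn} {N : M₀} {A : GLn} {z μ : F} (hn : 1 ≤ n) (hz : z ≠ 0)
    (h1 : (g.1 : Mat) * (A : Mat).map σq = z • (A : Mat)) (h2 : (A : Mat)ᵀ * (A : Mat).map σq = μ • N.map j)
    (h : GUn) {l : F} (hl0 : l ≠ 0) (hl : (h.1 : Mat) * (g.1 : Mat) * (h.1 : Mat)ᵀ = l • (g.1 : Mat)) :
    ∃ (w : F) (K : GL (Fin n) F₀) (c : F₀), c ≠ 0 ∧ (K : M₀)ᵀ * N * (K : M₀) = c • N ∧ w * σq w * j c = 1 ∧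
      (h.1 : Mat) * (A : Mat) = w • ((A : Mat) * (K : M₀).map j) := by
  obtain ⟨hμ, hN, -⟩ := Rep.ne_zero hF j hn (g := g) h2
  have h1' : (g.1 : Mat) * ((h.1 * A : GLn) : Mat).map σq = (l⁻¹ * z) • ((h.1 * A : GLn) : Mat) := by
    have e : (h.1 : Mat) * (g.1 : Mat) = l • ((g.1 : Mat) * (h.1 : Mat).map σq) := by
      rw [← smul_mul_assoc, ← hl, mul_assoc, gu_eq hF, mul_one]
    have e' : (g.1 : Mat) * (h.1 : Mat).map σq = l⁻¹ • ((h.1 : Mat) * (g.1 : Mat)) := by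
      rw [e, inv_smul_smul₀ hl0]
    rw [Units.val_mul, mapq_mul, ← mul_assoc, e', smul_mul_assoc, mul_assoc, h1, mul_smul_comm, smul_smul]
  obtain ⟨w, K, hw0, hK⟩ := compare hF j hj hn hz h1 h1'
  rw [Units.val_mul] at hK
  have e : ((h.1 : Mat) * (A : Mat))ᵀ * ((h.1 : Mat) * (A : Mat)).map σq = μ • N.map j := by
    rw [mapq_mul, transpose_mul, mul_assoc, ← mul_assoc (h.1 : Mat)ᵀ, gu_eq hF, one_mul, h2]
  rw [hK, form_mul hF j h2 w (K : M₀) (mapq_j hF j hj _)] at e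
  have hww : w * σq w ≠ 0 := mul_ne_zero hw0 (mapq_ne_zero hF hw0)
  have e' : ((K : M₀)ᵀ * N * (K : M₀)).map j = (w * σq w)⁻¹ • N.map j := by
    have := congrArg (fun X => (w * σq w * μ)⁻¹ • X) e
    rw [inv_smul_smul₀ (mul_ne_zero hww hμ), smul_smul] at this
    rw [this]
    congr 1
    field_simp
  have hne : (K : M₀)ᵀ * N * (K : M₀) ≠ 0 := fun h0 => hN (map_j_injective j (by
    rw [h0] at e'
    show N.map j = (0 : M₀).map j
    rw [← inv_smul_smul₀ (inv_ne_zero hww) (N.map j), ← e']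
    simp))
  obtain ⟨c, hc0, hc, hjc⟩ := smul_map_eq j e' hne
  exact ⟨w, K, c, hc0, hc, by rw [hjc, mul_inv_cancel₀ hww], hK⟩

section

variable (p : ℕ) [Fact p.Prime] [CharP F p]

include hj p in
theorem Rep.centralizer_iso (hn : 3 ≤ n) {g : GUn} {N : M₀} (h : Rep hF j g N) :
    Nonempty (↥(Cfsg.inndiagPSU n F q ⊓ Subgroup.centralizer {gU hF g}) ≃* Cfsg.projQuot (simGroup N)) := by
  classical
  obtain ⟨A, z, μ, hz, h1, h2⟩ := h
  have hn1 : 1 ≤ n := by omega
  have hex : ∀ k : simGroup N, ∃ (w : F) (t : GUn), (t.1 : Mat) * (A : Mat) = w • ((A : Mat) * (k.1 : M₀).map j) ∧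
      w ≠ 0 ∧ (∃ l : F, l ≠ 0 ∧ (t.1 : Mat) * (g.1 : Mat) * (t.1 : Mat)ᵀ = l • (g.1 : Mat)) := by
    intro k
    obtain ⟨c, hc⟩ := k.2
    obtain ⟨w, hw⟩ := exists_norm hF (s := j ((c⁻¹ : F₀ˣ) : F₀)) ((hj _).mpr ⟨_, rfl⟩)
    have hw' : w * σq w * j (c : F₀) = 1 := by rw [hw, ← map_mul, ← Units.val_mul, inv_mul_cancel, Units.val_one, map_one]
    obtain ⟨t, ht, htl⟩ := exists_lift hF j hj hn1 h1 h2 k.1 hc hw'
    exact ⟨w, t, ht, fun h0 => zero_ne_one (by rw [← hw', h0, zero_mul, zero_mul]), htl⟩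
  choose w t ht hw htl using hex
  have hsame : ∀ (k : simGroup N) (s : GUn) (v : F),
      (s.1 : Mat) * (A : Mat) = v • ((A : Mat) * (k.1 : M₀).map j) → (dia s : MulAut PSUn) = dia (t k) := by
    intro k s v hs
    refine dia_eq_of_smul hF p hn (w := v / w k) ((Units.mul_left_inj A).mp ?_)
    rw [hs, smul_mul_assoc, ht, smul_smul, div_mul_cancel₀ _ (hw k)]
  let ψ₀ : simGroup N →* MulAut PSUn := MonoidHom.mk' (fun k => dia (t k)) fun a b => by
    rw [← map_mul]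
    refine (hsame (a * b) (t a * t b) (w a * w b) ?_).symm
    rw [Subgroup.coe_mul, Units.val_mul, mul_assoc, ht, mul_smul_comm, ← mul_assoc, ht, smul_mul_assoc, smul_smul,
      mul_assoc, mul_comm (w b), Subgroup.coe_mul, Units.val_mul, ← Matrix.map_mul]
  let ψ : simGroup N →* ↥(Cfsg.inndiagPSU n F q ⊓ Subgroup.centralizer {gU hF g}) :=
    ψ₀.codRestrict _ fun k => ⟨by
      rw [SetLike.mem_coe, Cfsg.Agent.Lib.Classical.AutPSU.inndiag_eq]; exact ⟨t k, rfl⟩,
      (mem_centralizer_gU hF p hn g (t k)).mpr (htl k)⟩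
  have hsur : Function.Surjective ψ := by
    rintro ⟨y, hy, hc⟩
    rw [SetLike.mem_coe, Cfsg.Agent.Lib.Classical.AutPSU.inndiag_eq] at hy
    obtain ⟨s, rfl⟩ := hy
    obtain ⟨l, hl0, hl⟩ := (mem_centralizer_gU hF p hn g s).mp hc
    obtain ⟨v, K, c, hc0, hK, -, hs⟩ := exists_sim hF j hj hn1 hz h1 h2 s hl0 hl
    exact ⟨⟨K, Units.mk0 c hc0, hK⟩, Subtype.ext (hsame ⟨K, Units.mk0 c hc0, hK⟩ s v hs).symm⟩
  have hker : ψ.ker = (Cfsg.Geo.scalars (Fin n) F₀).subgroupOf (simGroup N) := by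
    ext k
    rw [MonoidHom.mem_ker, Subgroup.mem_subgroupOf, Subtype.ext_iff]
    show dia (t k) = 1 ↔ _
    rw [Cfsg.Geo.mem_scalars_iff]
    constructor
    · intro h0
      obtain ⟨u, hu0, hu⟩ := smul_of_dia_eq hF p hn (h0.trans (map_one dia).symm)
      have e := ht k
      rw [hu, Subgroup.coe_one, Units.val_one, smul_mul_assoc, one_mul] at e
      have e' : (k.1 : M₀).map j = (u / w k) • (1 : M₀).map j := by
        rw [Matrix.map_one _ (map_zero j) (map_one j)]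
        refine (Units.mul_right_inj A).mp ?_
        rw [mul_smul_comm, mul_one, div_eq_inv_mul, mul_smul, e, inv_smul_smul₀ (hw k)]
      haveI : Nonempty (Fin n) := ⟨⟨0, by omega⟩⟩
      obtain ⟨c, hc0, hc, -⟩ := smul_map_eq j e' k.1.ne_zero
      exact ⟨Units.mk0 c hc0, hc⟩
    · rintro ⟨c, hc⟩
      refine (dia_eq_of_smul hF p hn (g := 1) (w := w k * j (c : F₀)) ?_).trans (map_one dia)
      refine (Units.mul_left_inj A).mp ?_
      rw [ht, hc, j_smul, Matrix.map_one _ (map_zero j) (map_one j), Subgroup.coe_one, Units.val_one, mul_smul_comm,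
        mul_one, smul_smul, smul_mul_assoc, one_mul]
  exact ⟨(QuotientGroup.quotientKerEquivOfSurjective ψ hsur).symm.trans (QuotientGroup.quotientMulEquivOfEq hker)⟩

include hj p in
theorem Rep.conjUnder (hn : 3 ≤ n) {g g' : GUn} {N : M₀} (h : Rep hF j g N) (h' : Rep hF j g' N) :
    Cfsg.IsConjUnder (Cfsg.inndiagPSU n F q) (gU hF g) (gU hF g') := by
  obtain ⟨A, z, μ, hz, h1, h2⟩ := h
  obtain ⟨A', z', μ', hz', h1', h2'⟩ := h'
  obtain ⟨hμ, hN, -⟩ := Rep.ne_zero hF j (show 1 ≤ n by omega) (g := g) h2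
  obtain ⟨hμ', -, -⟩ := Rep.ne_zero hF j (show 1 ≤ n by omega) (g := g') h2'
  have hherm : ∀ {B : Mat} {ν : F}, Bᵀ * B.map σq = ν • N.map j → σq ν • (N.map j)ᵀ = ν • N.map j := by
    intro B ν e
    have e2 := congrArg (fun X : Mat => (X.map σq)ᵀ) e
    simp only [mapq_mul, mapq_smul, mapq_j hF j hj, mapq_mapq, Matrix.transpose_map, transpose_mul,
      transpose_transpose, transpose_smul] at e2
    rw [← e2, ← e]
  have hfix : σq (μ / μ') = μ / μ' := by
    have e : (μ' * σq μ) • (N.map j)ᵀ = (μ * σq μ') • (N.map j)ᵀ := by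
      rw [mul_smul, mul_smul, hherm h2, hherm h2', smul_comm]
    have hNj : (N.map j)ᵀ ≠ 0 := fun h0 => hN (map_j_injective j (by
      show N.map j = (0 : M₀).map j
      rw [← transpose_transpose (N.map j), h0]; simp))
    rw [map_div₀, div_eq_div_iff (mapq_ne_zero hF hμ') hμ']
    linear_combination smul_left_injective F hNj e
  obtain ⟨e, he⟩ := exists_norm hF hfix
  have he0 : e ≠ 0 := fun h0 => div_ne_zero hμ hμ' (by rw [← he, h0, zero_mul])
  set T : GLn := GeneralLinearGroup.scalar (Fin n) (Units.mk0 e he0) * (A' * A⁻¹) with hT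
  have hTA : (T : Mat) * (A : Mat) = e • (A' : Mat) := by
    rw [← Units.val_mul, hT, mul_assoc, inv_mul_cancel_right, Units.val_mul]
    show Matrix.scalar (Fin n) e * (A' : Mat) = _
    rw [scalar_smul, smul_mul_assoc, one_mul]
  have hAu : IsUnit ((A : Mat).map σq) := ⟨Units.map (RingHom.toMonoidHom (σq).mapMatrix) A, rfl⟩
  have hu : T ∈ Cfsg.GU n F q := by
    refine (Cfsg.Agent.Lib.Classical.mem_GU_iff hF T).mpr ?_
    have e' : ((T : Mat) * (A : Mat))ᵀ * ((T : Mat) * (A : Mat)).map σq = (A : Mat)ᵀ * (A : Mat).map σq := by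
      rw [hTA, mapq_smul, transpose_smul, smul_mul_assoc, mul_smul_comm, smul_smul, h2', smul_smul, h2, he,
        div_mul_cancel₀ _ hμ']
    rw [mapq_mul, transpose_mul, mul_assoc, ← mul_assoc (T : Mat)ᵀ] at e'
    have hAt : IsUnit (A : Mat)ᵀ := by
      rw [Matrix.isUnit_iff_isUnit_det, det_transpose]; exact ⟨GeneralLinearGroup.det A, rfl⟩
    have e'' := hAt.mul_left_cancel e'
    conv_rhs at e'' => rw [← one_mul ((A : Mat).map σq)]
    exact hAu.mul_right_cancel e''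
  refine (conjUnder_gU_iff hF p hn g g').mpr ⟨⟨T, hu⟩, z' * σq e / (z * e), ?_, ?_⟩
  · exact div_ne_zero (mul_ne_zero hz' (mapq_ne_zero hF he0)) (mul_ne_zero hz he0)
  show (g'.1 : Mat) = _ • ((T : Mat) * (g.1 : Mat) * (T : Mat)ᵀ)
  have e1 : (g'.1 : Mat) * (T : Mat).map σq = (z' * σq e / (z * e)) • ((T : Mat) * (g.1 : Mat)) := by
    refine hAu.mul_right_cancel ?_
    rw [mul_assoc, ← mapq_mul, hTA, mapq_smul, mul_smul_comm, h1', smul_mul_assoc, mul_assoc, h1, mul_smul_comm,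
      hTA, smul_smul, smul_smul, smul_smul]
    congr 1
    field_simp
  rw [← smul_mul_assoc, ← e1, mul_assoc, gu_eq' hF ⟨T, hu⟩, mul_one]

include hj p in
theorem Rep.cong_of_conjUnder (hn : 3 ≤ n) {g g' : GUn} {N N' : M₀} (h : Rep hF j g N) (h' : Rep hF j g' N')
    (hc : Cfsg.IsConjUnder (Cfsg.inndiagPSU n F q) (gU hF g) (gU hF g')) :
    ∃ (K : GL (Fin n) F₀) (c : F₀ˣ), N' = (c : F₀) • ((K : M₀)ᵀ * N * (K : M₀)) := by
  obtain ⟨t, w, hw, e⟩ := (conjUnder_gU_iff hF p hn g g').mp hc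
  exact (h.conj hF j t hw e).unique hF j hj (by omega) h'

theorem isGraph_gU (hn : 3 ≤ n) (g : GUn) : Cfsg.IsGraphAutClassPSU (gU hF g) :=
  ⟨hn, dia g, fld (cE hF), cE hF, by rw [orderOf_cE]; exact even_two,
    Cfsg.Agent.Lib.Classical.AutPSU.isInnerDiagonal_dia g, Cfsg.Agent.Lib.Classical.AutPSU.isFieldAutOf_fld _, rfl⟩

include p in
theorem orderOf_gU (hn : 3 ≤ n) {g : GUn} {l : F} (h : (g.1 : Mat) * (g.1 : Mat).map σq = l • 1) :
    orderOf (gU hF g) = 2 := by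
  haveI : Fact (Nat.Prime 2) := ⟨Nat.prime_two⟩
  refine orderOf_eq_prime ?_ fun h0 => cE_ne_one hF ?_
  · rw [pow_two, gU, mul_assoc, ← mul_assoc (fld (cE hF)), fld_mul_dia, mul_assoc, ← map_mul fld, cE_sq,
      map_one fld, mul_one, ← map_mul]
    refine (dia_eq_of_smul hF p hn (g := 1) (w := l) ?_).trans (map_one dia)
    rw [Subgroup.coe_mul, Units.val_mul, galG_coe, Subgroup.coe_one, Units.val_one]
    exact h
  · refine Cfsg.Agent.Lib.Classical.AutPSU.param_unique hF p hn (g := g) (h := 1) ?_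
    rw [map_one dia, map_one fld, one_mul]
    exact h0

include hj p in
theorem exists_rep_of_form (hn : 3 ≤ n) {N : M₀} (hN : N.det ≠ 0) (hs : Nᵀ = N ∨ Nᵀ = -N) :
    ∃ g : GUn, Rep hF j g N ∧ orderOf (gU hF g) = 2 := by
  obtain ⟨ε, hε, hεN⟩ : ∃ ε : F, ε * ε = 1 ∧ (N.map j)ᵀ = ε • N.map j := by
    rcases hs with h | h
    · exact ⟨1, one_mul 1, by rw [← Matrix.transpose_map, h, one_smul]⟩
    · refine ⟨-1, by ring, ?_⟩
      rw [← Matrix.transpose_map, h, neg_smul, one_smul]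
      exact Matrix.map_neg _ (map_neg j) _
  have hε0 : ε ≠ 0 := fun h0 => zero_ne_one (by rw [← hε, h0, mul_zero])
  have hεq : σq ε = ε := by
    rcases mul_self_eq_one_iff.mp hε with h | h <;> simp [h]
  obtain ⟨ω, hω0, hω⟩ : ∃ ω : F, ω ≠ 0 ∧ σq ω = ε * ω := by
    rcases mul_self_eq_one_iff.mp hε with h | h
    · exact ⟨1, one_ne_zero, by rw [map_one, h, one_mul]⟩
    · obtain ⟨c, hc0, hc⟩ := Cfsg.Agent.Lib.Classical.AutPSU.exists_skew hF
      exact ⟨c, hc0, by rw [hc, h, neg_one_mul]⟩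
  have hH : ((ω • N.map j).map σq)ᵀ = ω • N.map j := by
    rw [mapq_smul, mapq_j hF j hj, transpose_smul, hεN, hω, smul_smul,
      show ε * ω * ε = ω by linear_combination ω * hε]
  have hd : (ω • N.map j).det ≠ 0 := by
    rw [det_smul, ← RingHom.mapMatrix_apply, ← RingHom.map_det]
    exact mul_ne_zero (pow_ne_zero _ hω0) ((map_ne_zero_iff _ j.injective).mpr hN)
  obtain ⟨H, hHf⟩ := Cfsg.Agent.Lib.Classical.AutPSL.exists_hermitian_factor (σ := cE hF)
    (by rw [pow_two, cE_sq]) (cE_ne_one hF) (g := GeneralLinearGroup.mkOfDetNeZero _ hd) hH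
  rw [Cfsg.Agent.Lib.Classical.AutPSL.twist_gra, ← map_inv] at hHf
  have hA2 : (H : Mat) * ((H : Mat).map σq)ᵀ = ω • N.map j := by
    have e := congrArg Units.val hHf
    rw [Units.val_mul, Cfsg.Agent.Lib.Classical.AutPSL.galGL_coe,
      Cfsg.Agent.Lib.Classical.AutPSL.itGL_inv_coe, Matrix.transpose_map] at e
    exact e.symm
  set A : GLn := GeneralLinearGroup.mkOfDetNeZero (H : Mat)ᵀ
    (by rw [det_transpose]; exact (GeneralLinearGroup.det H).ne_zero) with hAdef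
  have h2 : (A : Mat)ᵀ * (A : Mat).map σq = ω • N.map j := by
    show (H : Mat)ᵀᵀ * (H : Mat)ᵀ.map σq = _
    rw [transpose_transpose, Matrix.transpose_map, hA2]
  obtain ⟨z, hz⟩ := exists_norm hF hεq
  have hz0 : z ≠ 0 := fun h0 => hε0 (by rw [← hz, h0, zero_mul])
  set Aq : GLn := Units.map (RingHom.toMonoidHom (σq).mapMatrix) A with hAq
  set G : GLn := GeneralLinearGroup.scalar (Fin n) (Units.mk0 z hz0) * (A * Aq⁻¹) with hG
  have hGA : (G : Mat) * (A : Mat).map σq = z • (A : Mat) := by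
    rw [show (A : Mat).map σq = (Aq : Mat) from rfl, ← Units.val_mul, hG, mul_assoc, inv_mul_cancel_right,
      Units.val_mul]
    show Matrix.scalar (Fin n) z * (A : Mat) = _
    rw [scalar_smul, smul_mul_assoc, one_mul]
  have hAu : IsUnit ((A : Mat).map σq) := ⟨Aq, rfl⟩
  have hu : G ∈ Cfsg.GU n F q := by
    refine (Cfsg.Agent.Lib.Classical.mem_GU_iff hF G).mpr ?_
    have e : ((G : Mat) * (A : Mat).map σq)ᵀ * ((G : Mat) * (A : Mat).map σq).map σq =
        ((A : Mat).map σq)ᵀ * (A : Mat) := by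
      rw [hGA, mapq_smul, transpose_smul, smul_mul_assoc, mul_smul_comm, smul_smul, h2, hz,
        show ((A : Mat).map σq)ᵀ * (A : Mat) = (ω • N.map j)ᵀ by
          rw [← h2, transpose_mul, transpose_transpose],
        transpose_smul, hεN, smul_smul, smul_smul, mul_comm ε]
    rw [mapq_mul, mapq_mapq, transpose_mul, mul_assoc, ← mul_assoc (G : Mat)ᵀ] at e
    have hAt : IsUnit ((A : Mat).map σq)ᵀ := by
      rw [Matrix.isUnit_iff_isUnit_det, det_transpose]; exact (Matrix.isUnit_iff_isUnit_det _).mp hAu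
    have e' := hAt.mul_left_cancel e
    conv_rhs at e' => rw [← one_mul (A : Mat)]
    exact A.isUnit.mul_right_cancel e'
  refine ⟨⟨G, hu⟩, ⟨A, z, ω, hz0, hGA, h2⟩, orderOf_gU hF p hn (l := ε) ?_⟩
  show (G : Mat) * (G : Mat).map σq = _
  refine A.isUnit.mul_right_cancel ?_
  have e := congrArg (fun X : Mat => X.map σq) hGA
  simp only [mapq_mul, mapq_mapq, mapq_smul] at e
  rw [mul_assoc, e, mul_smul_comm, hGA, smul_smul, smul_mul_assoc, one_mul, mul_comm, hz]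

include hj p in
theorem exists_rep {γ : MulAut PSUn} (hγ : Cfsg.IsGraphAutClassPSU γ) (h2 : orderOf γ = 2) :
    ∃ (g : GUn) (N : M₀), γ = gU hF g ∧ Rep hF j g N ∧ N.det ≠ 0 ∧ (Nᵀ = N ∨ Nᵀ = -N) := by
  obtain ⟨hn, δ, φ, σ, hev, hδ, hφ, rfl⟩ := hγ
  obtain ⟨g, rfl⟩ := Cfsg.Agent.Lib.Classical.AutPSU.mem_range_of_isInnerDiagonal hδ
  rw [Cfsg.Agent.Lib.Classical.AutPSU.eq_fld_of_isFieldAutOf hφ] at h2 ⊢
  have hp2 := h2 ▸ pow_orderOf_eq_one (dia g * fld σ : MulAut PSUn)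
  rw [Cfsg.Agent.Lib.Classical.AutPSU.dia_mul_fld_pow] at hp2
  have hσ2 : σ ^ 2 = 1 := Cfsg.Agent.Lib.Classical.AutPSU.param_unique hF p hn (h := 1) (τ := 1)
    (by rw [hp2, map_one dia, map_one fld, one_mul])
  have hσ : σ = cE hF := by
    obtain ⟨p', f, hp', hc', hq⟩ := exists_q_pow hF
    haveI : Fact p'.Prime := ⟨hp'⟩
    obtain ⟨hcyc, hcard⟩ := Cfsg.Agent.Lib.Classical.AutPSU.card_gal hq hF
    haveI : Finite (F ≃+* F) := Finite.of_injective (fun e : F ≃+* F => (e : F → F)) DFunLike.coe_injective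
    obtain ⟨γ₀, hγ₀⟩ := hcyc.exists_generator
    have ho : orderOf γ₀ = 2 * f := (orderOf_eq_card_of_forall_mem_zpowers hγ₀).trans hcard
    have huniq : ∀ x : F ≃+* F, x ^ 2 = 1 → x ≠ 1 → x = γ₀ ^ f := by
      intro x hx hx1
      obtain ⟨a, ha, rfl⟩ : ∃ a < orderOf γ₀, γ₀ ^ a = x := by
        obtain ⟨k, hk⟩ := mem_powers_iff_mem_zpowers.mpr (hγ₀ x)
        exact ⟨k % orderOf γ₀, Nat.mod_lt _ (orderOf_pos γ₀), by rw [pow_mod_orderOf]; exact hk⟩
      rw [← pow_mul] at hx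
      obtain ⟨b, hb⟩ := orderOf_dvd_of_pow_eq_one hx
      rw [ho] at ha hb
      have hb1 : b < 2 := by
        by_contra hcon
        have : 2 * f * 2 ≤ 2 * f * b := Nat.mul_le_mul_left _ (by omega)
        omega
      interval_cases b
      · exact absurd (by rw [show a = 0 by omega, pow_zero]) hx1
      · congr 1; omega
    have hne : σ ≠ 1 := fun h0 => by
      rw [h0, orderOf_one] at hev
      exact absurd hev (by decide)
    rw [huniq σ hσ2 hne, huniq _ (by rw [pow_two, cE_sq]) (cE_ne_one hF)]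
  subst hσ
  rw [hσ2, map_one fld, mul_one] at hp2
  obtain ⟨ε, -, hε⟩ := smul_of_dia_eq hF p hn (hp2.trans (map_one dia).symm)
  rw [Cfsg.Agent.Lib.Classical.AutPSU.prodG, Cfsg.Agent.Lib.Classical.AutPSU.prodG,
    Cfsg.Agent.Lib.Classical.AutPSU.prodG, map_one, mul_one, Subgroup.coe_mul, Units.val_mul, galG_coe,
    Subgroup.coe_one, Units.val_one] at hε
  replace hε : (g.1 : Mat) * (g.1 : Mat).map σq = ε • 1 := hε
  haveI : Nonempty (Fin n) := ⟨⟨0, by omega⟩⟩
  have hgt : (g.1 : Mat) = ε • (g.1 : Mat)ᵀ := by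
    have := congrArg (fun X => X * (g.1 : Mat)ᵀ) hε
    simp only [mul_assoc, gu_eq' hF, mul_one, smul_mul_assoc, one_mul] at this
    exact this
  have hε1 : ε * ε = 1 := by
    have h' : (g.1 : Mat) = (ε * ε) • (g.1 : Mat) := by
      conv_lhs => rw [hgt, hgt, transpose_smul, transpose_transpose, smul_smul]
    exact smul_left_injective F g.1.ne_zero (h'.symm.trans (one_smul F _).symm)
  have hε0 : ε ≠ 0 := fun h0 => zero_ne_one (by rw [← hε1, h0, mul_zero])
  have hεq : σq ε = ε := by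
    rcases mul_self_eq_one_iff.mp hε1 with h | h <;> simp [h]
  obtain ⟨z, hz⟩ := exists_norm hF hεq
  have hz0 : z ≠ 0 := fun h0 => hε0 (by rw [← hz, h0, zero_mul])
  set g' : GLn := GeneralLinearGroup.scalar (Fin n) (Units.mk0 z hz0) * g.1 with hg'
  have hg'c : (g' : Mat) = z • (g.1 : Mat) := by
    rw [hg', Units.val_mul]
    show Matrix.scalar (Fin n) z * _ = _
    rw [scalar_smul, smul_mul_assoc, one_mul]
  obtain ⟨A, hA⟩ := Cfsg.Agent.Lib.Classical.AutPSL.exists_twist_of_galProd_one (r := 2) Nat.prime_two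
    (σ := cE hF) (by rw [pow_two, cE_sq]) (cE_ne_one hF) (g := g') (Units.ext (by
      rw [Cfsg.Agent.Lib.Classical.AutPSL.galProd, Cfsg.Agent.Lib.Classical.AutPSL.galProd,
        Cfsg.Agent.Lib.Classical.AutPSL.galProd, map_one, mul_one, Units.val_mul,
        Cfsg.Agent.Lib.Classical.AutPSL.galGL_coe, Units.val_one, hg'c]
      show z • (g.1 : Mat) * (z • (g.1 : Mat)).map σq = 1
      rw [mapq_smul, smul_mul_assoc, mul_smul_comm, smul_smul, hε, smul_smul, hz, hε1, one_smul]))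
  have h1 : (g.1 : Mat) * (A : Mat).map σq = z⁻¹ • (A : Mat) := by
    have e := congrArg Units.val hA
    rw [Units.val_mul, Cfsg.Agent.Lib.Classical.AutPSL.galGL_coe, hg'c, smul_mul_assoc] at e
    exact (eq_inv_smul_iff₀ hz0).mpr e
  set X := (A : Mat)ᵀ * (A : Mat).map σq with hX
  have hXX : ((A : Mat).map σq)ᵀ * (A : Mat) = ε • X := by
    have e : ((g.1 : Mat) * (A : Mat).map σq)ᵀ * ((g.1 : Mat) * (A : Mat).map σq).map σq =
        ((A : Mat).map σq)ᵀ * (A : Mat) := by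
      rw [mapq_mul, mapq_mapq, transpose_mul, mul_assoc, ← mul_assoc (g.1 : Mat)ᵀ, gu_eq hF, one_mul]
    rw [← e, h1, mapq_smul, transpose_smul, smul_mul_assoc, mul_smul_comm, smul_smul, map_inv₀, ← mul_inv, hz]
    congr 1
    exact inv_eq_of_mul_eq_one_right hε1
  have hXt : Xᵀ = ε • X := by rw [hX, transpose_mul, transpose_transpose, ← hX, hXX]
  have hXq : X.map σq = ε • X := by
    rw [hX, mapq_mul, mapq_mapq, Matrix.transpose_map, ← hX, hXX]
  have hdX : X.det ≠ 0 := by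
    rw [hX, det_mul, det_transpose, ← RingHom.mapMatrix_apply, ← RingHom.map_det]
    exact mul_ne_zero (GeneralLinearGroup.det A).ne_zero (mapq_ne_zero hF (GeneralLinearGroup.det A).ne_zero)
  obtain ⟨μ, N, hμ, hN⟩ := exists_descend hF j hj hXq (fun h0 => hdX (by rw [h0, det_zero]))
  have hdN : N.det ≠ 0 := fun h0 => hdX (by
    rw [hN, det_smul, ← RingHom.mapMatrix_apply, ← RingHom.map_det, h0, map_zero, mul_zero])
  refine ⟨g, N, rfl, ⟨A, z⁻¹, μ, inv_ne_zero hz0, h1, hN⟩, hdN, ?_⟩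
  have hNt : (Nᵀ).map j = ε • N.map j := by
    rw [hN, transpose_smul, smul_comm] at hXt
    rw [Matrix.transpose_map]
    exact smul_right_injective Mat hμ hXt
  rcases mul_self_eq_one_iff.mp hε1 with h | h
  · exact Or.inl (map_j_injective j (by rw [h, one_smul] at hNt; exact hNt))
  · refine Or.inr (map_j_injective j ?_)
    show (Nᵀ).map j = (-N).map j
    rw [hNt, h, neg_smul, one_smul]
    exact (Matrix.map_neg _ (map_neg j) _).symm

end

end Cfsg.Agent.Lib.Geometry.GraphAut
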