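import Cfsg.Agent.Lib.Geometry.GraphAut.Unitary
import Cfsg.Agent.Lib.Geometry.GraphAut.EvenMain

/-!
Classes and centralizers of involutory graph automorphisms of `PSU_n(q)`.
-/

set_option autoImplicit false

namespace Cfsg.Agent.Lib.Geometry.GraphAut

open Matrix
open Cfsg.Agent.Lib.Classical (conjHom exists_q_pow spT spT_mulVec spT_conj spToGL exists_sympForm_eq_one)
open Cfsg.Agent.Lib.Classical.AutPSU (dia fld)

section Basic

variable {F : Type*} [Field F] [Fintype F] {q n m : ℕ} (hF : Fintype.card F = q ^ 2)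
  {F₀ : Type*} [Field F₀] (j : F₀ →+* F) (hj : ∀ a : F, conjHom hF a = a ↔ ∃ b, j b = a)

theorem Rep.one : Rep hF j (1 : Cfsg.GU n F q) (1 : Matrix (Fin n) (Fin n) F₀) := by
  refine ⟨1, 1, 1, one_ne_zero, ?_, ?_⟩ <;> simp

theorem gU_one : gU hF (1 : Cfsg.GU n F q) = fld (cE hF) := by rw [gU, map_one dia, one_mul]

include hj in
/-- The centralizer of a graph automorphism with standard matrix. -/
theorem Rep.centralizer_std (p : ℕ) [Fact p.Prime] [CharP F p] (hn : 3 ≤ n) {ι : Type} [Fintype ι] [DecidableEq ι]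
    (e : ι ≃ Fin n) (A : Matrix ι ι F₀) (h : A.det ≠ 0) (K : Subgroup (GL ι F₀)) (hK : K = simGroup A)
    {g : Cfsg.GU n F q} (hg : Rep hF j g (stdGL e A h : Matrix (Fin n) (Fin n) F₀)) :
    Nonempty (↥(Cfsg.inndiagPSU n F q ⊓ Subgroup.centralizer {gU hF g}) ≃* Cfsg.projQuot K) := by
  subst hK
  obtain ⟨a⟩ := hg.centralizer_iso hF j hj p hn
  obtain ⟨b⟩ := projQuot_sim_reindex e A
  exact ⟨a.trans b.symm⟩

include hj in
theorem Rep.of_cong' {g : Cfsg.GU n F q} {N N' : Matrix (Fin n) (Fin n) F₀} (h : Rep hF j g N) (hc : Cong N N') :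
    Rep hF j g N' := by
  obtain ⟨K, hK⟩ := hc
  exact h.change hF j hj K (c := 1) (by rw [hK, one_smul])

include hj in
theorem Rep.of_cong_symm {g : Cfsg.GU n F q} {N N' : Matrix (Fin n) (Fin n) F₀} (h : Rep hF j g N)
    (hc : Cong N' N) : Rep hF j g N' :=
  h.of_cong' hF j hj hc.symm

variable [Fintype F₀] (p : ℕ) [Fact p.Prime] [CharP F p]

include hj p in
/-- Odd dimension, odd characteristic. -/
theorem rep_odd_of_two_ne (h2 : (2 : F₀) ≠ 0) (hn : 3 ≤ n) (hnm : n = 2 * m + 1)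
    (e : Unit ⊕ (Fin m ⊕ Fin m) ≃ Fin n) (h0 : (oddMatrix m F₀ + (oddMatrix m F₀)ᵀ).det ≠ 0)
    {γ : MulAut (Cfsg.PSU n F q)} (hγ : Cfsg.IsGraphAutClassPSU γ) (hγ2 : orderOf γ = 2) :
    ∃ g, γ = gU hF g ∧ Rep hF j g (stdGL e _ h0 : Matrix (Fin n) (Fin n) F₀) := by
  obtain ⟨g, M, rfl, hg, hd, hM⟩ := exists_rep hF j hj p hγ hγ2
  set O := stdGL e _ h0
  have hO : (O : Matrix (Fin n) (Fin n) F₀)ᵀ = (O : Matrix (Fin n) (Fin n) F₀) := by
    rw [stdGL_coe, Matrix.transpose_reindex, sym_gram]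
  have hdO := (GeneralLinearGroup.det O).ne_zero
  have hsym : Mᵀ = M := by
    refine hM.resolve_right fun h => hd ?_
    have h' := congrArg Matrix.det h
    rw [det_transpose, det_neg, Fintype.card_fin, Odd.neg_one_pow (show Odd n by rw [hnm]; exact odd_two_mul_add_one m)] at h'
    exact (mul_eq_zero.mp (show (2 : F₀) * M.det = 0 by linear_combination h')).resolve_left h2
  refine ⟨g, rfl, ?_⟩
  refine hg.of_cong hF j hj (M.det * (O : Matrix (Fin n) (Fin n) F₀).det) (cong_of_symm h2 hsym (by rw [transpose_smul, hO]) hd ?_ ?_)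
  · rw [det_smul]; exact mul_ne_zero (pow_ne_zero _ (mul_ne_zero hd hdO)) hdO
  · rw [det_smul, Fintype.card_fin, show ∀ x : F₀, x ^ n = (x ^ m) ^ 2 * x from fun x => by
      rw [← pow_mul, ← pow_succ]; congr 1; omega]
    exact ⟨(M.det * (O : Matrix (Fin n) (Fin n) F₀).det) ^ m * (M.det * (O : Matrix (Fin n) (Fin n) F₀).det),
      by ring⟩

include hj p in
/-- Odd dimension, characteristic two. -/
theorem rep_odd_char_two [CharP F₀ 2] (hnm : n = 2 * m + 1) (e : (Fin m ⊕ Fin m) ⊕ Fin 1 ≃ Fin n)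
    {γ : MulAut (Cfsg.PSU n F q)} (hγ : Cfsg.IsGraphAutClassPSU γ) (hγ2 : orderOf γ = 2) :
    ∃ g, γ = gU hF g ∧ Rep hF j g (stdGL e _ (oddStd_det (F := F₀) m) : Matrix (Fin n) (Fin n) F₀) := by
  obtain ⟨g, M, rfl, hg, hd, hM⟩ := exists_rep hF j hj p hγ hγ2
  exact ⟨g, rfl, hg.of_cong' hF j hj (classify_odd hnm (symm_of_pm hM) hd e)⟩

end Basic

/-- Odd dimension. -/
theorem s2706 {F : Type*} [Field F] [Fintype F] {q : ℕ} (hF : Fintype.card F = q ^ 2) {n m : ℕ} (hn : 3 ≤ n)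
    (hnm : n = 2 * m + 1) (F₀ : Type*) [Field F₀] [Fintype F₀] (hF₀ : Fintype.card F₀ = q)
    (γ γ' : MulAut (Cfsg.PSU n F q)) (hγ : Cfsg.IsGraphAutClassPSU γ) (hγ2 : orderOf γ = 2)
    (hγ' : Cfsg.IsGraphAutClassPSU γ') (hγ'2 : orderOf γ' = 2) :
    Nonempty (↥(Cfsg.inndiagPSU n F q ⊓ Subgroup.centralizer {γ}) ≃* Cfsg.PGO F₀ (Cfsg.quadFormOdd m F₀)) ∧
      Cfsg.IsConjUnder (Cfsg.inndiagPSU n F q) γ γ' := by
  classical
  obtain ⟨p, hp⟩ := CharP.exists F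
  haveI : Fact p.Prime := ⟨CharP.char_is_prime F p⟩
  obtain ⟨j, hj⟩ := exists_fix_hom hF (F₀ := F₀) hF₀
  by_cases h2 : (2 : F₀) = 0
  · haveI : CharP F₀ 2 := CharTwo.of_one_ne_zero_of_two_eq_zero one_ne_zero h2
    let e : (Fin m ⊕ Fin m) ⊕ Fin 1 ≃ Fin n := Fintype.equivFinOfCardEq (by simp; omega)
    obtain ⟨g, rfl, hg⟩ := rep_odd_char_two hF j hj p hnm e hγ hγ2
    obtain ⟨g', rfl, hg'⟩ := rep_odd_char_two hF j hj p hnm e hγ' hγ'2
    refine ⟨?_, hg.conjUnder hF j hj p hn hg'⟩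
    obtain ⟨b⟩ := hg.centralizer_std hF j hj p hn e _ _ _ rfl
    obtain ⟨c⟩ := projSim_iso (oddStd m F₀) fun h => by
      haveI : Nonempty ((Fin m ⊕ Fin m) ⊕ Fin 1) := ⟨Sum.inr 0⟩
      exact oddStd_det (F := F₀) m (by rw [h, Matrix.det_zero])
    obtain ⟨d⟩ := iso_oddStd (F := F₀) m
    obtain ⟨o⟩ := Cfsg.Agent.Lib.Classical.nonempty_orthOdd_mulEquiv_sp (F := F₀) (m := m)
    obtain ⟨k⟩ := projQuad_iso (Cfsg.quadFormOdd m F₀)
      (fun c v => by rw [quadFormOdd_eq]; exact QuadraticMap.map_smul _ c v)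
      ⟨Sum.elim (fun _ => 1) 0, by simp [Cfsg.quadFormOdd]⟩
    exact ⟨b.trans (c.trans (d.symm.trans (o.symm.trans k.symm)))⟩
  · let e : Unit ⊕ (Fin m ⊕ Fin m) ≃ Fin n := Fintype.equivFinOfCardEq (by simp; omega)
    have h0 : (oddMatrix m F₀ + (oddMatrix m F₀)ᵀ).det ≠ 0 := by rw [det_oddGram]; simp [h2]
    obtain ⟨g, rfl, hg⟩ := rep_odd_of_two_ne hF j hj p h2 hn hnm e h0 hγ hγ2
    obtain ⟨g', rfl, hg'⟩ := rep_odd_of_two_ne hF j hj p h2 hn hnm e h0 hγ' hγ'2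
    refine ⟨hg.centralizer_std hF j hj p hn e _ _ _ ?_, hg.conjUnder hF j hj p hn hg'⟩
    rw [quadFormOdd_eq, quadSim_eq h2]

/-- Even dimension, odd `q`. -/
theorem s2707 {F : Type*} [Field F] [Fintype F] {q : ℕ} (hodd : Odd q) (hF : Fintype.card F = q ^ 2) {n m : ℕ}
    (hm : 2 ≤ m) (hnm : n = 2 * m) (F₀ : Type*) [Field F₀] [Fintype F₀] (hF₀ : Fintype.card F₀ = q) :
    ∃ (γ₁ γ₂ γ₃ : MulAut (Cfsg.PSU n F q)) (a b : F₀),
      (∀ z₁ z₂ : F₀, z₁ ^ 2 + a * z₁ * z₂ + b * z₂ ^ 2 = 0 → z₁ = 0 ∧ z₂ = 0) ∧ Cfsg.IsGraphAutClassPSU γ₁ ∧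
      orderOf γ₁ = 2 ∧ Cfsg.IsGraphAutClassPSU γ₂ ∧ orderOf γ₂ = 2 ∧ Cfsg.IsGraphAutClassPSU γ₃ ∧ orderOf γ₃ = 2 ∧
      ¬ Cfsg.IsConjUnder (Cfsg.inndiagPSU n F q) γ₁ γ₂ ∧ ¬ Cfsg.IsConjUnder (Cfsg.inndiagPSU n F q) γ₁ γ₃ ∧
      ¬ Cfsg.IsConjUnder (Cfsg.inndiagPSU n F q) γ₂ γ₃ ∧
      (∀ γ : MulAut (Cfsg.PSU n F q), Cfsg.IsGraphAutClassPSU γ → orderOf γ = 2 →
        Cfsg.IsConjUnder (Cfsg.inndiagPSU n F q) γ₁ γ ∨ Cfsg.IsConjUnder (Cfsg.inndiagPSU n F q) γ₂ γ ∨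
          Cfsg.IsConjUnder (Cfsg.inndiagPSU n F q) γ₃ γ) ∧
      Nonempty (↥(Cfsg.inndiagPSU n F q ⊓ Subgroup.centralizer {γ₁}) ≃* Cfsg.PGSp m F₀) ∧
      Nonempty (↥(Cfsg.inndiagPSU n F q ⊓ Subgroup.centralizer {γ₂}) ≃* Cfsg.PGO F₀ (Cfsg.quadFormPlus m F₀)) ∧
      Nonempty (↥(Cfsg.inndiagPSU n F q ⊓ Subgroup.centralizer {γ₃}) ≃*
        Cfsg.PGO F₀ (Cfsg.quadFormMinus (m - 1) F₀ a b)) := by
  classical
  obtain ⟨p, hp⟩ := CharP.exists F
  haveI : Fact p.Prime := ⟨CharP.char_is_prime F p⟩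
  obtain ⟨j, hj⟩ := exists_fix_hom hF (F₀ := F₀) hF₀
  have hodd₀ : Odd (Fintype.card F₀) := hF₀ ▸ hodd
  obtain ⟨D⟩ := exists_stdData (n := n) (F := F₀) hodd₀ (by omega : 1 ≤ m) hnm
  have hn : 3 ≤ n := by omega
  have hdet : ∀ M : GL (Fin n) F₀, (M : Matrix (Fin n) (Fin n) F₀).det ≠ 0 := fun M =>
    (GeneralLinearGroup.det M).ne_zero
  obtain ⟨g₁, h₁, o₁⟩ := exists_rep_of_form hF j hj p hn (hdet D.J) (Or.inr D.J_skew)
  obtain ⟨g₂, h₂, o₂⟩ := exists_rep_of_form hF j hj p hn (hdet D.P) (Or.inl D.P_sym)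
  obtain ⟨g₃, h₃, o₃⟩ := exists_rep_of_form hF j hj p hn (hdet D.N) (Or.inl D.N_sym)
  refine ⟨gU hF g₁, gU hF g₂, gU hF g₃, D.a, D.b, D.hab, isGraph_gU hF hn _, o₁, isGraph_gU hF hn _, o₂,
    isGraph_gU hF hn _, o₃, fun h => ?_, fun h => ?_, fun h => ?_, fun γ hγ h2 => ?_, ?_, ?_, ?_⟩
  · obtain ⟨k, c, e⟩ := h₁.cong_of_conjUnder hF j hj p hn h₂ h
    exact D.not_cong_sym (by omega) D.P_sym c k e
  · obtain ⟨k, c, e⟩ := h₁.cong_of_conjUnder hF j hj p hn h₃ h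
    exact D.not_cong_sym (by omega) D.N_sym c k e
  · obtain ⟨k, c, e⟩ := h₂.cong_of_conjUnder hF j hj p hn h₃ h
    exact D.not_cong_PN (by omega) hnm c k e
  · obtain ⟨g, M, rfl, hg, hd, hM⟩ := exists_rep hF j hj p hγ h2
    rcases D.classify hodd₀ (by omega) hnm (M := GeneralLinearGroup.mkOfDetNeZero M hd) hM with
      ⟨hc, -⟩ | ⟨hc | hc, -⟩
    · exact Or.inl (h₁.conjUnder hF j hj p hn (hg.of_cong_symm hF j hj hc))
    · exact Or.inr (Or.inl (h₂.conjUnder hF j hj p hn (hg.of_cong_symm hF j hj hc)))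
    · exact Or.inr (Or.inr (h₃.conjUnder hF j hj p hn (hg.of_cong_symm hF j hj hc)))
  · exact h₁.centralizer_std hF j hj p hn _ _ _ _ (GSp_eq m)
  · exact h₂.centralizer_std hF j hj p hn _ _ _ _ (by rw [quadFormPlus_eq, quadSim_eq D.h2])
  · exact h₃.centralizer_std hF j hj p hn _ _ _ _ (by rw [quadFormMinus_eq, quadSim_eq D.h2])

/-- The `q`-th power map in dimension divisible by four. -/
theorem s2710 {F : Type*} [Field F] [Fintype F] {q : ℕ} (hodd : Odd q) (hF : Fintype.card F = q ^ 2) {n m : ℕ}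
    (hm : 2 ≤ m) (hnm : n = 2 * m) (h4 : 4 ∣ n) (F₀ : Type*) [Field F₀] [Fintype F₀] (hF₀ : Fintype.card F₀ = q)
    (σ : F ≃+* F) (hσ : ∀ a : F, σ a = a ^ q) (φ : MulAut (Cfsg.PSU n F q)) (hφ : Cfsg.IsFieldAutPSUOf σ φ) :
    Nonempty (↥(Cfsg.inndiagPSU n F q ⊓ Subgroup.centralizer {φ}) ≃* Cfsg.PGO F₀ (Cfsg.quadFormPlus m F₀)) := by
  classical
  obtain ⟨p, hp⟩ := CharP.exists F
  haveI : Fact p.Prime := ⟨CharP.char_is_prime F p⟩
  obtain ⟨j, hj⟩ := exists_fix_hom hF (F₀ := F₀) hF₀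
  obtain ⟨D⟩ := exists_stdData (n := n) (F := F₀) (hF₀ ▸ hodd) (by omega : 1 ≤ m) hnm
  obtain rfl : σ = cE hF := RingEquiv.ext fun a => by
    rw [hσ, cE_apply, Cfsg.Agent.Lib.Classical.conjHom_apply]
  obtain rfl := Cfsg.Agent.Lib.Classical.AutPSU.eq_fld_of_isFieldAutOf hφ
  rw [← gU_one hF]
  have hme : Even m := by rw [Nat.even_iff]; omega
  refine ((Rep.one hF j).of_cong' hF j hj ?_).centralizer_std hF j hj p (by omega) D.eJ _
    (StdData.detP (F := F₀) (m := m)) _ (by rw [quadFormPlus_eq, quadSim_eq D.h2])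
  refine cong_of_symm D.h2 Matrix.transpose_one D.P_sym (by simp) (GeneralLinearGroup.det D.P).ne_zero ?_
  rw [Matrix.det_one, one_mul]
  show IsSquare (D.P : Matrix (Fin n) (Fin n) F₀).det
  rw [D.det_P, hme.neg_one_pow]
  exact IsSquare.one

/-- The isometries of the second even dimensional matrix centralise a transvection. -/
theorem iso_evenStd {F : Type*} [Field F] [Fintype F] [CharP F 2] {m : ℕ} (t0 : Fin m ⊕ Fin m → F) (ht0 : t0 ≠ 0) :
    Nonempty (isoGroup (evenStd m t0) ≃*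
      ↥(Subgroup.centralizer ({spT (Matrix.J (Fin m) F *ᵥ t0) (1 : F)} : Set ↥(Matrix.symplecticGroup (Fin m) F)))) := by
  classical
  set u := Matrix.J (Fin m) F *ᵥ t0 with hu
  have hu0 : u ≠ 0 := fun h => ht0 (gl_injective (Matrix.isUnit_det_J (Fin m) F).ne_zero t0 h)
  set t := spT u (1 : F) with ht
  have hmem : ∀ g : Matrix.symplecticGroup (Fin m) F,
      g ∈ Subgroup.centralizer ({t} : Set _) ↔ g.1ᵀ *ᵥ t0 = t0 := by
    intro g
    rw [Subgroup.mem_centralizer_singleton_iff]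
    have h1 : g * t = t * g ↔ g.1 *ᵥ u = u := by
      constructor
      · intro h
        have hc : spT (g.1 *ᵥ u) (1 : F) = t := by rw [← spT_conj, ← ht, h, mul_inv_cancel_right]
        obtain ⟨x, hx⟩ := exists_sympForm_eq_one hu0
        have hx' : Cfsg.sympForm m F x u = 1 := by
          rw [Cfsg.Agent.Lib.Geometry.sympForm_swap, hx, CharTwo.neg_eq]
        have h2 := congrArg (fun y : Matrix.symplecticGroup (Fin m) F => y.1 *ᵥ x) hc
        simp only [ht, spT_mulVec, one_mul, add_right_inj, hx', one_smul] at h2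
        set a := Cfsg.sympForm m F x (g.1 *ᵥ u) with ha
        have ha2 : a * a = 1 := by
          have h3 := congrArg (Cfsg.sympForm m F x) h2
          rw [Cfsg.Agent.Lib.Classical.sympForm_smul_right, hx', ← ha] at h3
          exact h3
        rw [sq_one ha2, one_smul] at h2
        exact h2
      · intro h
        rw [← mul_inv_eq_iff_eq_mul, ht, spT_conj, h]
    rw [h1]
    have hJ : g.1ᵀ * Matrix.J (Fin m) F * g.1 = Matrix.J (Fin m) F := SymplecticGroup.mem_iff'.mp g.2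
    have hJJ : Matrix.J (Fin m) F *ᵥ u = t0 := by
      rw [hu, Matrix.mulVec_mulVec, Matrix.J_squared]
      rw [neg_mulVec, one_mulVec]
      ext i; exact CharTwo.neg_eq _
    constructor
    · intro h
      have := congrArg (fun X => X *ᵥ u) hJ
      simp only [← Matrix.mulVec_mulVec, h, hJJ] at this
      exact this
    · intro h
      have := congrArg (fun X => X *ᵥ u) hJ
      simp only [← Matrix.mulVec_mulVec, hJJ] at this
      refine sub_eq_zero.mp (gl_injective (M := g.1ᵀ * Matrix.J (Fin m) F) ?_ _ ?_)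
      · rw [det_mul, det_transpose, SymplecticGroup.det_eq_one g.2, one_mul]
        exact (Matrix.isUnit_det_J (Fin m) F).ne_zero
      · rw [mulVec_sub, ← Matrix.mulVec_mulVec, ← Matrix.mulVec_mulVec, hJJ, this, h, sub_self]
  let ψ : ↥(Subgroup.centralizer ({t} : Set ↥(Matrix.symplecticGroup (Fin m) F))) →* isoGroup (evenStd m t0) :=
    ((spToGL m F).comp (Subgroup.subtype _)).codRestrict _ fun g =>
      (evenStd_iso_mem t0 _).mpr ⟨g.1.2, (hmem g.1).mp g.2⟩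
  refine ⟨(MulEquiv.ofBijective ψ ⟨fun x y h => ?_, fun g => ?_⟩).symm⟩
  · exact Subtype.ext (Cfsg.Agent.Lib.Classical.spToGL_injective (congrArg Subtype.val h))
  · obtain ⟨hs, hf⟩ := (evenStd_iso_mem t0 g.1).mp g.2
    exact ⟨⟨⟨_, hs⟩, (hmem ⟨_, hs⟩).mpr hf⟩, Subtype.ext (Units.ext rfl)⟩

/-- Even dimension, even `q`. -/
theorem s2708 {F : Type*} [Field F] [Fintype F] [CharP F 2] {q : ℕ} (hF : Fintype.card F = q ^ 2) {n m : ℕ}
    (hm : 2 ≤ m) (hnm : n = 2 * m) (F₀ : Type*) [Field F₀] [Fintype F₀] (hF₀ : Fintype.card F₀ = q) :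
    ∃ (γ₁ γ₃ : MulAut (Cfsg.PSU n F q)) (t : ↥(Matrix.symplecticGroup (Fin m) F₀)),
      Cfsg.IsTransvection (t : Matrix (Fin m ⊕ Fin m) (Fin m ⊕ Fin m) F₀) ∧ Cfsg.IsGraphAutClassPSU γ₁ ∧
      orderOf γ₁ = 2 ∧ Cfsg.IsGraphAutClassPSU γ₃ ∧ orderOf γ₃ = 2 ∧
      ¬ Cfsg.IsConjUnder (Cfsg.inndiagPSU n F q) γ₁ γ₃ ∧
      (∀ γ : MulAut (Cfsg.PSU n F q), Cfsg.IsGraphAutClassPSU γ → orderOf γ = 2 →
        Cfsg.IsConjUnder (Cfsg.inndiagPSU n F q) γ₁ γ ∨ Cfsg.IsConjUnder (Cfsg.inndiagPSU n F q) γ₃ γ) ∧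
      Nonempty (↥(Cfsg.inndiagPSU n F q ⊓ Subgroup.centralizer {γ₁}) ≃* ↥(Matrix.symplecticGroup (Fin m) F₀)) ∧
      Nonempty (↥(Cfsg.inndiagPSU n F q ⊓ Subgroup.centralizer {γ₃}) ≃*
        ↥(Subgroup.centralizer ({t} : Set ↥(Matrix.symplecticGroup (Fin m) F₀)))) := by
  classical
  haveI : Fact (Nat.Prime 2) := ⟨Nat.prime_two⟩
  obtain ⟨j, hj⟩ := exists_fix_hom hF (F₀ := F₀) hF₀
  haveI : CharP F₀ 2 := (RingHom.charP_iff j j.injective 2).mpr inferInstance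
  have hn : 3 ≤ n := by omega
  let e : Fin m ⊕ Fin m ≃ Fin n := Fintype.equivFinOfCardEq (by simp; omega)
  let i0 : Fin m ⊕ Fin m := Sum.inl ⟨0, by omega⟩
  let t0 : Fin m ⊕ Fin m → F₀ := Pi.single i0 1
  have ht0 : t0 ≠ 0 := fun h => one_ne_zero (α := F₀) (by simpa [t0] using congrFun h i0)
  set A := stdGL e (Matrix.J (Fin m) F₀) (Matrix.isUnit_det_J (Fin m) F₀).ne_zero with hAdef
  set B := stdGL e (evenStd m t0) (evenStd_det t0) with hBdef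
  have hA : (A : Matrix (Fin n) (Fin n) F₀)ᵀ = (A : Matrix (Fin n) (Fin n) F₀) := by
    rw [stdGL_coe, Matrix.transpose_reindex, J_alt]
  have hB : (B : Matrix (Fin n) (Fin n) F₀)ᵀ = (B : Matrix (Fin n) (Fin n) F₀) := by
    rw [stdGL_coe, Matrix.transpose_reindex, evenStd, transpose_add, J_alt, transpose_vecMulVec]
  obtain ⟨g₁, h₁, o₁⟩ := exists_rep_of_form hF j hj 2 hn (GeneralLinearGroup.det A).ne_zero (Or.inl hA)
  obtain ⟨g₃, h₃, o₃⟩ := exists_rep_of_form hF j hj 2 hn (GeneralLinearGroup.det B).ne_zero (Or.inl hB)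
  set u := Matrix.J (Fin m) F₀ *ᵥ t0 with hu
  have hu0 : u ≠ 0 := fun h => ht0 (gl_injective (Matrix.isUnit_det_J (Fin m) F₀).ne_zero t0 h)
  set t := spT u (1 : F₀) with ht
  have hsub : (t : Matrix (Fin m ⊕ Fin m) (Fin m ⊕ Fin m) F₀) - 1 = vecMulVec u (Matrix.J (Fin m) F₀ *ᵥ u) := by
    show Cfsg.sympTransvection m u 1 - 1 = _
    rw [Cfsg.sympTransvection, one_smul, add_sub_cancel_left]
  have htr : Cfsg.IsTransvection (t : Matrix (Fin m ⊕ Fin m) (Fin m ⊕ Fin m) F₀) := by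
    refine ⟨?_, ?_⟩
    · rw [hsub]
      refine le_antisymm (Matrix.rank_vecMulVec_le _ _) (Nat.one_le_iff_ne_zero.mpr fun h => ?_)
      rw [Matrix.rank, Submodule.finrank_eq_zero, LinearMap.range_eq_bot] at h
      obtain ⟨x, hx⟩ := exists_sympForm_eq_one hu0
      have := LinearMap.congr_fun h x
      rw [Matrix.mulVecLin_apply, vecMulVec_mulVec, op_smul_eq_smul, dotProduct_comm, ← sympForm_eq,
        Cfsg.Agent.Lib.Geometry.sympForm_swap, hx, LinearMap.zero_apply, CharTwo.neg_eq, one_smul] at this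
      exact hu0 this
    · rw [hsub, vecMulVec_mul_vecMulVec, dotProduct_comm, ← sympForm_eq, Cfsg.Agent.Lib.Geometry.sympForm_self, zero_smul,
        Matrix.vecMulVec_zero]
  refine ⟨gU hF g₁, gU hF g₃, t, htr, isGraph_gU hF hn _, o₁, isGraph_gU hF hn _, o₃, fun h => ?_,
    fun γ hγ h2 => ?_, ?_, ?_⟩
  · obtain ⟨k, c, eq⟩ := h₁.cong_of_conjUnder hF j hj 2 hn h₃ h
    have hbi : (B : Matrix (Fin n) (Fin n) F₀) (e i0) (e i0) = 1 := by
      rw [stdGL_coe, evenStd]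
      simp [t0, i0, Matrix.J, vecMulVec_apply]
    have hw : ∀ x : Fin n → F₀, x ⬝ᵥ ((A : Matrix (Fin n) (Fin n) F₀) *ᵥ x) = 0 := fun x => by
      rw [stdGL_coe, Matrix.reindex_apply, Matrix.submatrix_mulVec_equiv, Equiv.symm_symm,
        dotProduct_comp_equiv_symm, ← sympForm_eq]
      exact Cfsg.Agent.Lib.Geometry.sympForm_self _
    have e1 : (B : Matrix (Fin n) (Fin n) F₀) (e i0) (e i0) =
        Pi.single (e i0) 1 ⬝ᵥ ((B : Matrix (Fin n) (Fin n) F₀) *ᵥ Pi.single (e i0) 1) := by simp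
    rw [eq, smul_mulVec, dotProduct_smul, form_eq, hw, smul_zero, ← eq, hbi] at e1
    exact one_ne_zero e1
  · obtain ⟨g, M, rfl, hg, hd, hM⟩ := exists_rep hF j hj 2 hγ h2
    rcases classify_even hnm (by omega : 1 ≤ m) (symm_of_pm hM) hd e with h | h
    · exact Or.inl (h₁.conjUnder hF j hj 2 hn (hg.of_cong' hF j hj h))
    · exact Or.inr (h₃.conjUnder hF j hj 2 hn (hg.of_cong' hF j hj (h t0 ht0)))
  · obtain ⟨a⟩ := h₁.centralizer_std hF j hj 2 hn e _ _ _ rfl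
    haveI : Nonempty (Fin m ⊕ Fin m) := ⟨i0⟩
    obtain ⟨b⟩ := projSim_iso (Matrix.J (Fin m) F₀) fun h => (Matrix.isUnit_det_J (Fin m) F₀).ne_zero (by
      rw [h, Matrix.det_zero])
    refine ⟨(a.trans b).trans ((Cfsg.Agent.Lib.Classical.spEquivGL m F₀).trans (MulEquiv.subgroupCongr ?_)).symm⟩
    ext g
    constructor
    · intro hg
      exact SymplecticGroup.mem_iff'.mp (Cfsg.Agent.Lib.Geometry.mem_symplecticGroup_iff_form.mpr hg)
    · intro hg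
      exact Cfsg.Agent.Lib.Geometry.mem_symplecticGroup_iff_form.mp (SymplecticGroup.mem_iff'.mpr hg)
  · obtain ⟨a⟩ := h₃.centralizer_std hF j hj 2 hn e _ _ _ rfl
    haveI : Nonempty (Fin m ⊕ Fin m) := ⟨i0⟩
    obtain ⟨b⟩ := projSim_iso (evenStd m t0) fun h => evenStd_det t0 (by rw [h, Matrix.det_zero])
    obtain ⟨c⟩ := iso_evenStd t0 ht0
    exact ⟨(a.trans b).trans c⟩

end Cfsg.Agent.Lib.Geometry.GraphAut
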