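import Cfsg.Agent.Lib.Geometry.GraphAut.UnitaryMain
import Cfsg.Agent.Lib.Geometry.GraphAut.Split

/-!
Splitting of the classes of involutory graph automorphisms of `PSU_n(q)`.
-/

set_option autoImplicit false

namespace Cfsg.Agent.Lib.Geometry.GraphAut

open Matrix
open Cfsg.Agent.Lib.Classical (conjHom conjHom_apply conjHom_conjHom conjHom_ne_id)
open Cfsg.Agent.Lib.Classical.AutPSU (dia fld U1 mem_U1 scU scU_coe detU detU_coe detU_scU detU_surjective card_U1 dia_eq_one_iff suG detU_suG dia_suG pr_surjective)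
open Cfsg.Agent.Lib.Classical.AutPSL (card_quot_conj index_sup_range_pow)

section Split

variable {F : Type*} [Field F] [Fintype F] {q n : ℕ} (hF : Fintype.card F = q ^ 2)
  {F₀ : Type*} [Field F₀] (j : F₀ →+* F) (hj : ∀ a : F, conjHom hF a = a ↔ ∃ b, j b = a)
  (p : ℕ) [Fact p.Prime] [CharP F p]

/-- The determinants of the unitary matrices commuting with a graph automorphism. -/
def IsSplitDet (g : Cfsg.GU n F q) (u : U1 F q) : Prop :=
  ∃ h : Cfsg.GU n F q, dia h ∈ Subgroup.centralizer {gU hF g} ∧ detU hF h = u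

include p in
theorem split_gU (hn : 3 ≤ n) (g : Cfsg.GU n F q) (A : Subgroup (U1 F q))
    (hA : ∀ u, u ∈ A ↔ IsSplitDet hF g u) :
    Cfsg.splitClassCount (Cfsg.inndiagPSU n F q) (Cfsg.Inn (Cfsg.PSU n F q)) (gU hF g) = A.index := by
  classical
  have hnorm : ∀ a ∈ (dia (F := F) (q := q) (n := n)).range, ∀ k ∈ Cfsg.Inn (Cfsg.PSU n F q),
      a * k * a⁻¹ ∈ Cfsg.Inn (Cfsg.PSU n F q) := by
    rintro a - _ ⟨y, rfl⟩
    exact ⟨a y, MulEquiv.ext fun z => by simp [MulAut.conj_apply]⟩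
  rw [Cfsg.Agent.Lib.Classical.AutPSU.inndiag_eq,
    card_quot_conj _ _ Cfsg.Agent.Lib.Classical.AutPSU.inn_le_range hnorm]
  set C := (dia (F := F) (q := q) (n := n)).range ⊓ Subgroup.centralizer {gU hF g}
  have hscU : ∀ u, detU hF (scU u : Cfsg.GU n F q) ∈ A := fun u =>
    (hA _).mpr ⟨scU u, by rw [Cfsg.Agent.Lib.Classical.AutPSU.dia_scU]; exact one_mem _, rfl⟩
  have hle : C ⊔ Cfsg.Inn (Cfsg.PSU n F q) ≤ (A.comap (detU hF)).map dia := by
    refine sup_le ?_ ?_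
    · rintro _ ⟨⟨h, rfl⟩, hc⟩
      exact ⟨h, (hA _).mpr ⟨h, hc, rfl⟩, rfl⟩
    · rintro _ ⟨y, rfl⟩
      obtain ⟨s, rfl⟩ := pr_surjective y
      refine ⟨suG s, ?_, dia_suG s⟩
      show detU hF (suG s) ∈ A
      rw [detU_suG]
      exact one_mem A
  have hcomap : (C ⊔ Cfsg.Inn (Cfsg.PSU n F q)).comap dia = A.comap (detU hF) := by
    apply le_antisymm
    · intro h hh
      obtain ⟨h', hh', e⟩ := hle hh
      obtain ⟨u, hu⟩ := (dia_eq_one_iff hF p hn (h'⁻¹ * h)).mp (by rw [map_mul, map_inv, e, inv_mul_cancel])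
      show detU hF h ∈ A
      rw [show h = h' * (h'⁻¹ * h) by group, map_mul, hu]
      exact mul_mem hh' (hscU u)
    · intro h hh
      obtain ⟨h₀, hc, hd⟩ := (hA _).mp (show detU hF h ∈ A from hh)
      set k := h₀⁻¹ * h with hk
      have hk1 : detU hF k = 1 := by rw [hk, map_mul, map_inv, hd, inv_mul_cancel]
      have hdet : (k.1 : Matrix (Fin n) (Fin n) F).det = 1 := by rw [← detU_coe hF, hk1]; rfl
      show dia h ∈ C ⊔ Cfsg.Inn (Cfsg.PSU n F q)
      rw [show h = h₀ * k by rw [hk, mul_inv_cancel_left], map_mul,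
        show k = suG ⟨⟨(k.1 : Matrix (Fin n) (Fin n) F), hdet⟩, k.2⟩ from Subtype.ext (Units.ext rfl), dia_suG]
      exact Subgroup.mul_mem_sup ⟨⟨_, rfl⟩, hc⟩ ⟨_, rfl⟩
  rw [MonoidHom.range_eq_map, ← Subgroup.relIndex_comap, hcomap, Subgroup.relIndex_top_right,
    Subgroup.index_comap_of_surjective _ (detU_surjective hF (by omega))]

include p in
theorem index_pow_range (k : ℕ) : (powMonoidHom k : U1 F q →* U1 F q).range.index = Nat.gcd k (Nat.card (U1 F q)) := by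
  haveI : IsCyclic (U1 F q) := Subgroup.isCyclic _
  have h := index_sup_range_pow (⊥ : Subgroup (U1 F q)) k
  rwa [bot_sup_eq, Subgroup.card_bot, Nat.div_one] at h

include p in
theorem pow_range_mem (hn : 3 ≤ n) {g : Cfsg.GU n F q} {u : U1 F q}
    (hu : u ∈ (powMonoidHom n : U1 F q →* U1 F q).range) : IsSplitDet hF g u := by
  obtain ⟨v, rfl⟩ := hu
  exact ⟨scU v, by rw [Cfsg.Agent.Lib.Classical.AutPSU.dia_scU]; exact one_mem _, detU_scU hF v⟩

include hj p in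
/-- The shape of the determinant. -/
theorem splitDet_shape (hn : 3 ≤ n) {g : Cfsg.GU n F q} {N : Matrix (Fin n) (Fin n) F₀} (hg : Rep hF j g N)
    {u : U1 F q} (hu : IsSplitDet hF g u) :
    ∃ (w : F) (K : GL (Fin n) F₀) (c : F₀), c ≠ 0 ∧ (K : Matrix (Fin n) (Fin n) F₀)ᵀ * N * (K : Matrix _ _ F₀) = c • N ∧
      w * conjHom hF w * j c = 1 ∧ ((u : Fˣ) : F) = w ^ n * j (K : Matrix (Fin n) (Fin n) F₀).det ∧
      (K : Matrix (Fin n) (Fin n) F₀).det * (K : Matrix (Fin n) (Fin n) F₀).det = c ^ n := by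
  obtain ⟨A, z, μ, hz, h1, h2⟩ := hg
  obtain ⟨h, hc, rfl⟩ := hu
  obtain ⟨l, hl0, hl⟩ := (mem_centralizer_gU hF p hn g h).mp hc
  obtain ⟨w, K, c, hc0, hK, hw, hh⟩ := exists_sim hF j hj (by omega) hz h1 h2 h hl0 hl
  obtain ⟨-, -, hN⟩ := Rep.ne_zero hF j (show 1 ≤ n by omega) (g := g) h2
  refine ⟨w, K, c, hc0, hK, hw, ?_, ?_⟩
  · have e := congrArg Matrix.det hh
    rw [det_mul, det_smul, det_mul, Fintype.card_fin, ← RingHom.mapMatrix_apply, ← RingHom.map_det] at e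
    rw [detU_coe]
    exact mul_right_cancel₀ (GeneralLinearGroup.det A).ne_zero (by
      show _ * (A : Matrix (Fin n) (Fin n) F).det = _ * (A : Matrix (Fin n) (Fin n) F).det
      linear_combination e)
  · have e := congrArg Matrix.det hK
    rw [det_mul, det_mul, det_transpose, det_smul, Fintype.card_fin] at e
    exact mul_right_cancel₀ hN (by linear_combination e)

include hj p in
/-- Similitudes give determinants. -/
theorem splitDet_of_sim (hn : 3 ≤ n) {g : Cfsg.GU n F q} {N : Matrix (Fin n) (Fin n) F₀} (hg : Rep hF j g N)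
    {u : U1 F q} (K : GL (Fin n) F₀) {c : F₀}
    (hK : (K : Matrix (Fin n) (Fin n) F₀)ᵀ * N * (K : Matrix _ _ F₀) = c • N) {w : F}
    (hw : w * conjHom hF w * j c = 1) (hu : ((u : Fˣ) : F) = w ^ n * j (K : Matrix (Fin n) (Fin n) F₀).det) :
    IsSplitDet hF g u := by
  obtain ⟨A, z, μ, hz, h1, h2⟩ := hg
  obtain ⟨h, hh, hl⟩ := exists_lift hF j hj (by omega) h1 h2 K hK hw
  refine ⟨h, (mem_centralizer_gU hF p hn g h).mpr hl, Subtype.ext (Units.ext ?_)⟩
  have e := congrArg Matrix.det hh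
  rw [det_mul, det_smul, det_mul, Fintype.card_fin, ← RingHom.mapMatrix_apply, ← RingHom.map_det] at e
  rw [detU_coe, hu]
  exact mul_right_cancel₀ (GeneralLinearGroup.det A).ne_zero (by
    show _ * (A : Matrix (Fin n) (Fin n) F).det = _ * (A : Matrix (Fin n) (Fin n) F).det
    linear_combination e)

include hj in
theorem j_fixed (a : F₀) : conjHom hF (j a) = j a := (hj _).mpr ⟨a, rfl⟩

include hj p in
/-- Odd dimension or characteristic two. -/
theorem split_simple_gU [Fintype F₀] (hn : 3 ≤ n) {g : Cfsg.GU n F q} {N : Matrix (Fin n) (Fin n) F₀}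
    (hg : Rep hF j g N) (h : Odd n ∨ (2 : F₀) = 0) :
    Cfsg.splitClassCount (Cfsg.inndiagPSU n F q) (Cfsg.Inn (Cfsg.PSU n F q)) (gU hF g) = Nat.gcd n (q + 1) := by
  rw [split_gU hF p hn g (powMonoidHom n : U1 F q →* U1 F q).range fun u => ⟨pow_range_mem hF p hn, fun hu => ?_⟩,
    index_pow_range p, card_U1 hF]
  obtain ⟨w, K, c, hc0, -, hw, hud, hd⟩ := splitDet_shape hF j hj p hn hg hu
  set d := (K : Matrix (Fin n) (Fin n) F₀).det
  obtain ⟨z, hz2, hzn⟩ : ∃ z : F₀, z * z = c ∧ z ^ n = d := by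
    rcases h with ⟨k, hk⟩ | h2
    · have hk' : d * d = c ^ (2 * k) * c := by rw [← pow_succ, hd, hk]
      have hzz : d / c ^ k * (d / c ^ k) = c := by
        rw [div_mul_div_comm, hk', ← pow_add, ← two_mul, mul_div_cancel_left₀ _ (pow_ne_zero _ hc0)]
      refine ⟨d / c ^ k, hzz, ?_⟩
      rw [hk, pow_succ, pow_mul, pow_two, hzz, mul_div_cancel₀ _ (pow_ne_zero _ hc0)]
    · haveI : CharP F₀ 2 := CharTwo.of_one_ne_zero_of_two_eq_zero one_ne_zero h2
      obtain ⟨z, hz⟩ := exists_sqrt' c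
      refine ⟨z, hz, ?_⟩
      rw [← hz, mul_pow] at hd
      rcases mul_self_eq_mul_self_iff.mp hd with e' | e'
      · exact e'.symm
      · rw [e', CharTwo.neg_eq]
  have hv : (w * j z) * conjHom hF (w * j z) = 1 := by
    rw [map_mul, j_fixed hF j hj]
    rw [← hz2, map_mul] at hw
    linear_combination hw
  have hv0 : w * j z ≠ 0 := fun h0 => zero_ne_one (by rw [← hv, h0, zero_mul])
  refine ⟨⟨Units.mk0 _ hv0, mem_U1.mpr (by rw [Units.val_mk0, pow_succ', ← conjHom_apply hF, hv])⟩,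
    Subtype.ext (Units.ext ?_)⟩
  show (w * j z) ^ n = _
  rw [hud, mul_pow, ← map_pow, hzn]

theorem hilbert90 (v : U1 F q) : ∃ w : F, w ≠ 0 ∧ ((v : Fˣ) : F) * conjHom hF w = w := by
  obtain ⟨w, hw0, hw⟩ := Cfsg.Agent.Lib.Classical.AutPSL.exists_twist_scalar (r := 2) Nat.prime_two
    (σ := cE hF) (by rw [pow_two, cE_sq]) (cE_ne_one hF) (a := ((v : Fˣ) : F)) (by
      simp only [Cfsg.Agent.Lib.Classical.AutPSL.galNorm, map_one, mul_one, cE_apply]
      rw [mul_comm]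
      exact Cfsg.Agent.Lib.Classical.AutPSU.conj_mul_self_of_mem_U1 hF v.2)
  exact ⟨w, hw0, hw⟩

/-- The determinant of a lift is a power of a norm one element. -/
theorem pow_shape {w : F} {c : F₀} (hw : w * conjHom hF w * j c = 1) :
    ∃ v : U1 F q, ∀ m : ℕ, w ^ (2 * m) * j (c ^ m) = ((v : Fˣ) : F) ^ m := by
  have hw0 : w ≠ 0 := fun h0 => zero_ne_one (by rw [← hw, h0, zero_mul, zero_mul])
  have hcw : conjHom hF w ≠ 0 := mapq_ne_zero hF hw0
  have hv : w / conjHom hF w * conjHom hF (w / conjHom hF w) = 1 := by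
    rw [map_div₀, conjHom_conjHom]
    field_simp
  refine ⟨⟨Units.mk0 (w / conjHom hF w) (div_ne_zero hw0 hcw),
    mem_U1.mpr (by rw [Units.val_mk0, pow_succ', ← conjHom_apply hF, hv])⟩, fun m => ?_⟩
  show _ = (w / conjHom hF w) ^ m
  rw [map_pow, pow_mul, ← mul_pow]
  congr 1
  rw [eq_div_iff hcw]
  linear_combination w * hw

include hj in
/-- Every norm one element occurs. -/
theorem exists_shape (v : U1 F q) :
    ∃ (w : F) (c : F₀), c ≠ 0 ∧ w * conjHom hF w * j c = 1 ∧ ∀ m : ℕ, w ^ (2 * m) * j (c ^ m) = ((v : Fˣ) : F) ^ m := by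
  obtain ⟨w, hw0, hw⟩ := hilbert90 hF v
  have hcw : conjHom hF w ≠ 0 := mapq_ne_zero hF hw0
  obtain ⟨c, hc⟩ := (hj (w * conjHom hF w)⁻¹).mp (by rw [map_inv₀, fixed_mul_self])
  have hwc : w * conjHom hF w * j c = 1 := by rw [hc, mul_inv_cancel₀ (mul_ne_zero hw0 hcw)]
  refine ⟨w, c, fun h0 => zero_ne_one (by rw [← hwc, h0, map_zero, mul_zero]), hwc, fun m => ?_⟩
  rw [map_pow, pow_mul, ← mul_pow]
  congr 1
  refine mul_right_cancel₀ hcw ?_
  linear_combination w * hwc - hw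

variable {m : ℕ}

include hj p in
/-- Symplectic type. -/
theorem split_J_gU (hn : 3 ≤ n) (hnm : n = 2 * m) (D : StdData n m F₀) {g : Cfsg.GU n F q}
    (hg : Rep hF j g (D.J : Matrix (Fin n) (Fin n) F₀)) :
    Cfsg.splitClassCount (Cfsg.inndiagPSU n F q) (Cfsg.Inn (Cfsg.PSU n F q)) (gU hF g) = Nat.gcd m (q + 1) := by
  have hval : ∀ h : GL (Fin m ⊕ Fin m) F₀, (reGL D.eJ h : Matrix (Fin n) (Fin n) F₀).det = (h : Matrix (Fin m ⊕ Fin m) (Fin m ⊕ Fin m) F₀).det :=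
    fun h => Matrix.det_reindex_self _ _
  have hJ : (simGroup (Matrix.J (Fin m) F₀)).map (reGL D.eJ).toMonoidHom = simGroup (D.J : Matrix (Fin n) (Fin n) F₀) :=
    reGL_sim D.eJ _
  rw [split_gU hF p hn g (powMonoidHom m : U1 F q →* U1 F q).range fun u => ⟨?_, fun hu => ?_⟩,
    index_pow_range p, card_U1 hF]
  · rintro ⟨v, rfl⟩
    obtain ⟨w, c, hc0, hw, hv⟩ := exists_shape hF j hj v
    obtain ⟨d, hd, hdd⟩ := scale_J (F := F₀) m (Units.mk0 c hc0)
    have hmem : reGL D.eJ d ∈ simGroup (D.J : Matrix (Fin n) (Fin n) F₀) := hJ ▸ ⟨d, ⟨_, hd⟩, rfl⟩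
    refine splitDet_of_sim hF j hj p hn hg (reGL D.eJ d) (c := c) ?_ hw ?_
    · rw [reGL_coe, StdData.J, stdGL_coe, Matrix.transpose_reindex]
      simp only [Matrix.reindex_apply, Matrix.submatrix_mul_equiv]
      rw [hd]
      rfl
    · show ((v : Fˣ) : F) ^ m = _
      rw [← hv, hval, hnm]
      have := congrArg Units.val hdd
      rw [GeneralLinearGroup.val_det_apply, Units.val_pow_eq_pow_val, Units.val_mk0] at this
      rw [this]
  · obtain ⟨w, K, c, hc0, hK, hw, hud, -⟩ := splitDet_shape hF j hj p hn hg hu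
    obtain ⟨h, ⟨c', hc'⟩, rfl⟩ : K ∈ (simGroup (Matrix.J (Fin m) F₀)).map (reGL D.eJ).toMonoidHom :=
      hJ ▸ ⟨Units.mk0 c hc0, hK⟩
    have hcc : (c' : F₀) = c := by
      rw [MulEquiv.coe_toMonoidHom, reGL_coe, StdData.J, stdGL_coe, Matrix.transpose_reindex] at hK
      simp only [Matrix.reindex_apply, Matrix.submatrix_mul_equiv] at hK
      rw [hc'] at hK
      haveI : Nonempty (Fin n) := ⟨⟨0, by omega⟩⟩
      have hJ0 : Matrix.reindex D.eJ D.eJ (Matrix.J (Fin m) F₀) ≠ 0 := fun h0 => by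
        have := congrArg Matrix.det h0
        rw [Matrix.det_reindex_self, Matrix.det_zero] at this
        exact (Matrix.isUnit_det_J (Fin m) F₀).ne_zero this
      exact smul_left_injective F₀ hJ0 hK
    obtain ⟨d, hd, hdd⟩ := scale_J (F := F₀) m c'
    have hs : ((h * d⁻¹ : GL (Fin m ⊕ Fin m) F₀) : Matrix (Fin m ⊕ Fin m) (Fin m ⊕ Fin m) F₀) ∈
        Matrix.symplecticGroup (Fin m) F₀ := by
      refine SymplecticGroup.mem_iff'.mpr ?_
      calc _ = ((d⁻¹ : GL (Fin m ⊕ Fin m) F₀) : Matrix _ _ F₀)ᵀ * ((h : Matrix _ _ F₀)ᵀ * Matrix.J (Fin m) F₀ *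
            (h : Matrix _ _ F₀)) * ((d⁻¹ : GL (Fin m ⊕ Fin m) F₀) : Matrix _ _ F₀) := by
            simp only [Units.val_mul, transpose_mul, mul_assoc]
        _ = ((d : Matrix _ _ F₀) * ((d⁻¹ : GL (Fin m ⊕ Fin m) F₀) : Matrix _ _ F₀))ᵀ * Matrix.J (Fin m) F₀ *
            ((d : Matrix _ _ F₀) * ((d⁻¹ : GL (Fin m ⊕ Fin m) F₀) : Matrix _ _ F₀)) := by
            rw [hc', ← hd]; simp only [transpose_mul, mul_assoc]
        _ = _ := by rw [← Units.val_mul, mul_inv_cancel, Units.val_one, transpose_one, one_mul, mul_one]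
    have h1 : GeneralLinearGroup.det (h * d⁻¹) = 1 := Units.ext (SymplecticGroup.det_eq_one hs)
    rw [map_mul, map_inv, mul_inv_eq_one, hdd] at h1
    obtain ⟨v, hv⟩ := pow_shape hF j hw
    refine ⟨v, Subtype.ext (Units.ext ?_)⟩
    show ((v : Fˣ) : F) ^ m = _
    rw [hud, MulEquiv.coe_toMonoidHom, hval, ← GeneralLinearGroup.val_det_apply, h1, Units.val_pow_eq_pow_val, hcc,
      hnm, ← hv]

include hj p in
/-- Orthogonal type. -/
theorem split_sym_gU [Fintype F₀] (hn : 3 ≤ n) (hnm : n = 2 * m) (h2 : (2 : F₀) ≠ 0) (hodd : Odd q)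
    {g : Cfsg.GU n F q} {N : Matrix (Fin n) (Fin n) F₀} (hg : Rep hF j g N) (hN : Nᵀ = N) (hd : N.det ≠ 0) :
    Cfsg.splitClassCount (Cfsg.inndiagPSU n F q) (Cfsg.Inn (Cfsg.PSU n F q)) (gU hF g) = Nat.gcd n (q + 1) / 2 := by
  classical
  haveI : IsCyclic (U1 F q) := Subgroup.isCyclic _
  have h2F : (2 : F) ≠ 0 := fun h => h2 (j.injective (by rw [map_ofNat, h, map_zero]))
  let negU : U1 F q := ⟨-1, mem_U1.mpr (by
    rw [Units.val_neg, Units.val_one, pow_succ, ← conjHom_apply hF, map_neg, map_one]; ring)⟩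
  have hnegU : ((negU : Fˣ) : F) = -1 := rfl
  set A := Subgroup.zpowers negU ⊔ (powMonoidHom m : U1 F q →* U1 F q).range with hA
  have hneg : negU ≠ 1 := fun h => h2F (by
    have := congrArg (fun x : U1 F q => ((x : Fˣ) : F)) h
    simp only [hnegU, OneMemClass.coe_one, Units.val_one] at this
    linear_combination -this)
  have hiso : ∃ K : GL (Fin n) F₀, (K : Matrix (Fin n) (Fin n) F₀)ᵀ * N * (K : Matrix _ _ F₀) = N ∧
      (K : Matrix (Fin n) (Fin n) F₀).det = -1 := by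
    let i0 : Fin n := ⟨0, by omega⟩
    let dv : Fin n → F₀ := fun i => if i = i0 then N.det else 1
    have hdet : (Matrix.diagonal dv).det = N.det := by simp [dv, Matrix.det_diagonal]
    obtain ⟨k, hk⟩ := cong_of_symm h2 (Matrix.diagonal_transpose dv) hN (by rw [hdet]; exact hd) hd
      (by rw [hdet]; exact ⟨_, rfl⟩)
    let rv : Fin n → F₀ := fun i => if i = i0 then -1 else 1
    have hrd : (Matrix.diagonal rv).det = -1 := by simp [rv, Matrix.det_diagonal]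
    let r : GL (Fin n) F₀ := GeneralLinearGroup.mkOfDetNeZero (Matrix.diagonal rv) (by rw [hrd]; simp)
    have hr : (r : Matrix (Fin n) (Fin n) F₀)ᵀ * Matrix.diagonal dv * (r : Matrix (Fin n) (Fin n) F₀) =
        Matrix.diagonal dv := by
      show (Matrix.diagonal rv)ᵀ * _ * Matrix.diagonal rv = _
      rw [Matrix.diagonal_transpose, Matrix.diagonal_mul_diagonal, Matrix.diagonal_mul_diagonal]
      congr 1
      funext i
      by_cases h : i = i0 <;> simp [rv, h]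
    refine ⟨k⁻¹ * r * k, ?_, ?_⟩
    · conv_lhs => rw [← hk]
      calc _ = (k : Matrix (Fin n) (Fin n) F₀)ᵀ * ((r : Matrix (Fin n) (Fin n) F₀)ᵀ *
            ((((k : Matrix (Fin n) (Fin n) F₀) * ((k⁻¹ : GL (Fin n) F₀) : Matrix (Fin n) (Fin n) F₀)))ᵀ * Matrix.diagonal dv *
            ((k : Matrix (Fin n) (Fin n) F₀) * ((k⁻¹ : GL (Fin n) F₀) : Matrix (Fin n) (Fin n) F₀))) *
            (r : Matrix (Fin n) (Fin n) F₀)) * (k : Matrix (Fin n) (Fin n) F₀) := by
            simp only [Units.val_mul, transpose_mul, mul_assoc]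
        _ = _ := by rw [← Units.val_mul, mul_inv_cancel, Units.val_one, transpose_one, one_mul, mul_one, hr, hk]
    · rw [← GeneralLinearGroup.val_det_apply, map_mul, map_mul, map_inv, mul_comm (GeneralLinearGroup.det k)⁻¹,
        inv_mul_cancel_right]
      exact hrd
  rw [split_gU hF p hn g A fun u => ⟨?_, fun hu => ?_⟩]
  · have hz : Nat.card (Subgroup.zpowers negU) = 2 := by
      haveI : Fact (Nat.Prime 2) := ⟨Nat.prime_two⟩
      rw [Nat.card_zpowers]
      refine orderOf_eq_prime (Subtype.ext (Units.ext ?_)) hneg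
      show ((negU : Fˣ) : F) ^ 2 = 1
      rw [hnegU]; ring
    rw [hA, index_sup_range_pow, hz, card_U1 hF, hnm]
    obtain ⟨k, hk⟩ := hodd
    rw [hk, show (2 * k + 1 + 1) = 2 * (k + 1) by ring, Nat.mul_div_cancel_left _ two_pos, Nat.gcd_mul_left,
      Nat.mul_div_cancel_left _ two_pos]
  · intro hu
    obtain ⟨a, ⟨i, rfl⟩, b, ⟨v, rfl⟩, rfl⟩ := Subgroup.mem_sup.mp hu
    have hi : ((negU ^ i : U1 F q) : Fˣ) = 1 ∨ ((negU ^ i : U1 F q) : Fˣ) = (negU : Fˣ) := by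
      rw [Subgroup.coe_zpow, show (negU : Fˣ) = -1 from rfl]
      rcases Int.even_or_odd i with h | h
      · exact Or.inl h.neg_one_zpow
      · exact Or.inr h.neg_one_zpow
    obtain ⟨w, c, hc0, hw, hv⟩ := exists_shape hF j hj v
    obtain ⟨K₁, hK₁⟩ := scale_symm h2 N hN hd (k := m) (by rw [Fintype.card_fin]; exact hnm) (Units.mk0 c hc0)
    obtain ⟨K₀, hK₀, hd₀⟩ := hiso
    have hK₁' : (K₁ : Matrix (Fin n) (Fin n) F₀)ᵀ * N * (K₁ : Matrix (Fin n) (Fin n) F₀) = c • N := hK₁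
    have e := congrArg Matrix.det hK₁'
    rw [det_mul, det_mul, det_transpose, det_smul, Fintype.card_fin] at e
    have e' : (K₁ : Matrix (Fin n) (Fin n) F₀).det * (K₁ : Matrix (Fin n) (Fin n) F₀).det = c ^ m * c ^ m := by
      refine mul_right_cancel₀ hd ?_
      rw [← pow_add, ← two_mul, ← hnm]
      linear_combination e
    have hK₂ : ((K₀ * K₁ : GL (Fin n) F₀) : Matrix (Fin n) (Fin n) F₀)ᵀ * N *
        ((K₀ * K₁ : GL (Fin n) F₀) : Matrix (Fin n) (Fin n) F₀) = c • N := by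
      rw [Units.val_mul, transpose_mul, show ∀ a b x d : Matrix (Fin n) (Fin n) F₀, a * b * x * (d * (K₁ : Matrix _ _ F₀)) =
        a * (b * x * d) * (K₁ : Matrix _ _ F₀) from fun a b x d => by simp only [mul_assoc], hK₀, hK₁']
    have hcast : ((((negU ^ i : U1 F q) * (powMonoidHom m : U1 F q →* U1 F q) v : U1 F q) : Fˣ) : F) =
        (((negU ^ i : U1 F q) : Fˣ) : F) * ((v : Fˣ) : F) ^ m := rfl
    have hw2 : w ^ n * j (c ^ m) = ((v : Fˣ) : F) ^ m := by rw [hnm]; exact hv m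
    have hd2 : ((K₀ * K₁ : GL (Fin n) F₀) : Matrix (Fin n) (Fin n) F₀).det =
        -(K₁ : Matrix (Fin n) (Fin n) F₀).det := by rw [Units.val_mul, det_mul, hd₀, neg_one_mul]
    rcases mul_self_eq_mul_self_iff.mp e' with e' | e' <;> rcases hi with hi | hi
    · refine splitDet_of_sim hF j hj p hn hg K₁ hK₁' hw ?_
      rw [hcast, hi, e', Units.val_one, one_mul, hw2]
    · refine splitDet_of_sim hF j hj p hn hg (K₀ * K₁) hK₂ hw ?_
      rw [hcast, hi, hnegU, hd2, e', map_neg, mul_neg, hw2, neg_one_mul]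
    · refine splitDet_of_sim hF j hj p hn hg (K₀ * K₁) hK₂ hw ?_
      rw [hcast, hi, Units.val_one, one_mul, hd2, e', neg_neg, hw2]
    · refine splitDet_of_sim hF j hj p hn hg K₁ hK₁' hw ?_
      rw [hcast, hi, hnegU, e', map_neg, mul_neg, hw2, neg_one_mul]
  · obtain ⟨w, K, c, hc0, -, hw, hud, hdd⟩ := splitDet_shape hF j hj p hn hg hu
    obtain ⟨v, hv⟩ := pow_shape hF j hw
    have hw2 : w ^ n * j (c ^ m) = ((v : Fˣ) : F) ^ m := by rw [hnm]; exact hv m
    rw [show c ^ n = c ^ m * c ^ m by rw [← pow_add, hnm, two_mul]] at hdd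
    rcases mul_self_eq_mul_self_iff.mp hdd with e | e
    · refine Subgroup.mem_sup_right ⟨v, Subtype.ext (Units.ext ?_)⟩
      show ((v : Fˣ) : F) ^ m = _
      rw [hud, e, hw2]
    · rw [show u = negU * v ^ m from Subtype.ext (Units.ext (by
        show _ = ((negU : Fˣ) : F) * ((v : Fˣ) : F) ^ m
        rw [hnegU, hud, e, map_neg, mul_neg, hw2, neg_one_mul]))]
      exact mul_mem (Subgroup.mem_sup_left (Subgroup.mem_zpowers _)) (Subgroup.mem_sup_right ⟨v, rfl⟩)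

end Split

/-- The splitting of the classes. -/
theorem s2709 {F : Type*} [Field F] [Fintype F] {p f q : ℕ} [Fact p.Prime] (hq : q = p ^ f)
    (hF : Fintype.card F = q ^ 2) {n : ℕ} (hn : 3 ≤ n) (F₀ : Type*) [Field F₀] [Fintype F₀]
    (hF₀ : Fintype.card F₀ = q) (γ : MulAut (Cfsg.PSU n F q)) (hγ : Cfsg.IsGraphAutClassPSU γ) (hγ2 : orderOf γ = 2) :
    ((Even n ∧ Odd q ∧ Nonempty (↥(Cfsg.inndiagPSU n F q ⊓ Subgroup.centralizer {γ}) ≃* Cfsg.PGSp (n / 2) F₀)) →
      Cfsg.splitClassCount (Cfsg.inndiagPSU n F q) (Cfsg.Inn (Cfsg.PSU n F q)) γ = Nat.gcd (n / 2) (q + 1)) ∧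
    ((Even n ∧ Odd q ∧ ¬ Nonempty (↥(Cfsg.inndiagPSU n F q ⊓ Subgroup.centralizer {γ}) ≃* Cfsg.PGSp (n / 2) F₀)) →
      Cfsg.splitClassCount (Cfsg.inndiagPSU n F q) (Cfsg.Inn (Cfsg.PSU n F q)) γ = Nat.gcd n (q + 1) / 2) ∧
    (¬ (Even n ∧ Odd q) →
      Cfsg.splitClassCount (Cfsg.inndiagPSU n F q) (Cfsg.Inn (Cfsg.PSU n F q)) γ = Nat.gcd n (q + 1)) := by
  classical
  haveI : CharP F p := charP_of_card_eq_prime_pow (f := f * 2) (by rw [hF, hq, ← pow_mul])
  obtain ⟨j, hj⟩ := exists_fix_hom hF (F₀ := F₀) hF₀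
  obtain ⟨g, N, rfl, hg, hd, hN⟩ := exists_rep hF j hj p hγ hγ2
  have base : Even n → Odd q → ∃ D : StdData n (n / 2) F₀, 1 ≤ n / 2 ∧ n = 2 * (n / 2) ∧ Odd (Fintype.card F₀) := by
    intro he ho
    have hnm : n = 2 * (n / 2) := by rw [Nat.even_iff] at he; omega
    obtain ⟨D⟩ := exists_stdData (n := n) (F := F₀) (hF₀ ▸ ho) (by omega : 1 ≤ n / 2) hnm
    exact ⟨D, by omega, hnm, hF₀ ▸ ho⟩
  refine ⟨fun ⟨he, ho, hiso⟩ => ?_, fun ⟨he, ho, hniso⟩ => ?_, fun h => ?_⟩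
  · obtain ⟨D, hm, hnm, hodd⟩ := base he ho
    rcases D.classify hodd hm hnm (M := GeneralLinearGroup.mkOfDetNeZero N hd) hN with ⟨hc, -⟩ | ⟨hc, -⟩
    · exact split_J_gU hF j hj p hn hnm D (hg.of_cong_symm hF j hj hc)
    · exfalso
      obtain ⟨e⟩ := hiso
      rcases hc with hc | hc
      · obtain ⟨a⟩ := (hg.of_cong_symm hF j hj hc).centralizer_std hF j hj p hn _ _ _
          (Cfsg.Geo.quadSimilarityGroup (Cfsg.quadFormPlus (n / 2) F₀)) (by rw [quadFormPlus_eq, quadSim_eq D.h2])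
        exact (D.not_sp hodd hm).1 ⟨a.symm.trans e⟩
      · obtain ⟨a⟩ := (hg.of_cong_symm hF j hj hc).centralizer_std hF j hj p hn _ _ _
          (Cfsg.Geo.quadSimilarityGroup (Cfsg.quadFormMinus (n / 2 - 1) F₀ D.a D.b))
          (by rw [quadFormMinus_eq, quadSim_eq D.h2])
        exact (D.not_sp hodd hm).2 ⟨a.symm.trans e⟩
  · obtain ⟨D, hm, hnm, hodd⟩ := base he ho
    rcases D.classify hodd hm hnm (M := GeneralLinearGroup.mkOfDetNeZero N hd) hN with ⟨hc, -⟩ | ⟨-, hs⟩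
    · exact absurd ((hg.of_cong_symm hF j hj hc).centralizer_std hF j hj p hn _ _ _ _ (GSp_eq (n / 2))) hniso
    · exact split_sym_gU hF j hj p hn hnm D.h2 ho hg hs hd
  · refine split_simple_gU hF j hj p hn hg ?_
    rcases Nat.even_or_odd n with he | ho
    · refine Or.inr ?_
      have hq2 : ¬ Odd q := fun ho => h ⟨he, ho⟩
      have : ((Fintype.card F₀ : ℕ) : F₀) = 0 := FiniteField.cast_card_eq_zero F₀
      obtain ⟨p₀, hp₀⟩ := CharP.exists F₀
      haveI : Fact p₀.Prime := ⟨CharP.char_is_prime F₀ p₀⟩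
      by_contra h2
      exact hq2 (hF₀ ▸ Nat.odd_iff.mpr (FiniteField.odd_card_of_char_ne_two (fun hr => h2 (by
        haveI : CharP F₀ 2 := hr ▸ ringChar.charP F₀
        exact CharTwo.two_eq_zero))))
    · exact Or.inl ho

end Cfsg.Agent.Lib.Geometry.GraphAut
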